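import Cfsg.Agent.H800.Sp.Base

/-!
# `AbIrr p G` from one element acting on one pair

`abIrr_of_pair` : `S = ⟨x, y⟩` of order `p²` a Sylow `p`-subgroup, `⟨y⟩` conjugate to `⟨x⟩`, some `f` centralises `y`
and normalises, but does not centralise, `⟨x⟩`.
-/

set_option autoImplicit false

universe u

namespace Cfsg.Agent.H800.Sp

open Subgroup Cfsg.Agent.H795

variable {G : Type u} [Group G] [Finite G] {p : ℕ} [hp : Fact p.Prime]

/-- two commuting elements of order `p` that are independent generate a Sylow `p`-subgroup if `p³ ∤ |G|` -/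
theorem exists_sylow_sup {x y : G} (h3 : ¬ p ^ 3 ∣ Nat.card G) (hxo : orderOf x = p)
    (hyo : orderOf y = p) (hxy : x * y = y * x) (hne : y ∉ zpowers x) :
    ∃ Q : Sylow p G, (Q : Subgroup G) = zpowers x ⊔ zpowers y := by
  have hnorm : zpowers y ≤ normalizer ((zpowers x : Subgroup G) : Set G) := by
    rw [zpowers_le]
    apply centralizer_le_normalizer
    rw [mem_centralizer_iff]
    intro w hw
    obtain ⟨i, rfl⟩ := mem_zpowers_iff.1 hw
    exact ((show Commute x y from hxy).zpow_left i).eq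
  have hpx : IsPGroup p (zpowers x) := IsPGroup.of_card (n := 1) (by rw [Nat.card_zpowers, hxo, pow_one])
  have hpy : IsPGroup p (zpowers y) := IsPGroup.of_card (n := 1) (by rw [Nat.card_zpowers, hyo, pow_one])
  have hP : IsPGroup p (zpowers x ⊔ zpowers y : Subgroup G) := hpx.to_sup_of_normal_left' hpy hnorm
  obtain ⟨m, hm⟩ := IsPGroup.iff_card.1 hP
  have hm2 : 1 < m := by
    have h6 : Nat.card (zpowers x) < Nat.card (zpowers x ⊔ zpowers y : Subgroup G) := by
      have h7 : zpowers x < zpowers x ⊔ zpowers y := by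
        refine lt_of_le_of_ne le_sup_left fun h8 => hne ?_
        rw [h8]
        exact mem_sup_right (mem_zpowers y)
      exact Set.ncard_lt_ncard (SetLike.coe_ssubset_coe.2 h7) (Set.toFinite _)
    rw [Nat.card_zpowers, hxo, hm] at h6
    exact (Nat.pow_lt_pow_iff_right hp.out.one_lt).1 (by rwa [pow_one])
  obtain ⟨Q, hQ⟩ := hP.exists_le_sylow
  refine ⟨Q, (Subgroup.eq_of_le_of_card_ge hQ ?_).symm⟩
  obtain ⟨k, hk⟩ := IsPGroup.iff_card.1 Q.isPGroup'
  rw [hm, hk]
  apply Nat.pow_le_pow_right hp.out.pos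
  by_contra hcon
  exact h3 ((pow_dvd_pow p (by omega)).trans (hk ▸ Subgroup.card_subgroup_dvd_card _))

theorem abIrr_of_pair {x y f g : G} (h3 : ¬ p ^ 3 ∣ Nat.card G) (hx : orderOf x = p) (hy : orderOf y = p)
    (hxy : x * y = y * x) (hne : y ∉ zpowers x) (hg : g * y * g⁻¹ ∈ zpowers x) (hfy : f * y = y * f)
    (hfx : f * x * f⁻¹ ∈ zpowers x) (hfx' : f * x ≠ x * f) : AbIrr p G := by
  classical
  obtain ⟨S, hSxy⟩ := exists_sylow_sup h3 hx hy hxy hne
  refine abIrr_of_sylow S fun hS B hBS hBp hinv => ?_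
  by_cases hB0 : B = ⊥
  · exact Or.inl hB0
  right
  by_contra hcon
  push Not at hcon
  obtain ⟨x0, hx0S, hx0p, hx0B⟩ := hcon
  have hxS : x ∈ (S : Subgroup G) := by rw [hSxy]; exact mem_sup_left (mem_zpowers x)
  have hyS : y ∈ (S : Subgroup G) := by rw [hSxy]; exact mem_sup_right (mem_zpowers y)
  have hle : ∀ D : Subgroup G, x ∈ D → y ∈ D → (S : Subgroup G) ≤ D := fun D h1 h2 => by
    rw [hSxy]
    exact sup_le (by rwa [zpowers_le]) (by rwa [zpowers_le])
  have hfN : f ∈ normalizer ((S : Subgroup G) : Set G) := by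
    refine mem_normalizer_of_le fun z hz => ?_
    have h1 : (S : Subgroup G) ≤ (S : Subgroup G).comap (MulAut.conj f).toMonoidHom := by
      refine hle _ ?_ ?_
      · show f * x * f⁻¹ ∈ (S : Subgroup G)
        rw [hSxy]
        exact mem_sup_left hfx
      · show f * y * f⁻¹ ∈ (S : Subgroup G)
        rw [hfy, mul_inv_cancel_right]
        exact hyS
    exact h1 hz
  have hBE : B ≤ om p (S : Subgroup G) hS := fun b hb => ⟨hBS hb, hBp b hb⟩
  obtain ⟨B2, hB2E, hinv2, hdisj, hsup⟩ := exists_invariant_compl S hS B hBE hinv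
  -- two conjugate subgroups of order `p` of `S`, the first one in an invariant subgroup
  have key : ∀ D : Subgroup G, (∀ n ∈ normalizer ((S : Subgroup G) : Set G), ∀ d ∈ D, n * d * n⁻¹ ∈ D) →
      y ∈ D → x ∈ D := by
    intro D hD hyD
    have hzle : zpowers x ≤ (S : Subgroup G) := by rwa [zpowers_le]
    obtain ⟨n, hn, hn2⟩ := Sylow.conj_eq_normalizer_conj_of_mem S y g⁻¹ hyS (by
      rw [inv_inv]
      exact hzle hg)
    rw [inv_inv] at hn2
    have h1 : g * y * g⁻¹ ∈ D := by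
      rw [hn2]
      have := hD n⁻¹ (inv_mem hn) y hyD
      rwa [inv_inv] at this
    have h2 : zpowers (g * y * g⁻¹) = zpowers x := by
      refine Subgroup.eq_of_le_of_card_ge (by rwa [zpowers_le]) ?_
      rw [Nat.card_zpowers, Nat.card_zpowers, conj_order, hy, hx]
    have h4 : zpowers (g * y * g⁻¹) ≤ D := by rwa [zpowers_le]
    rw [h2] at h4
    exact h4 (mem_zpowers x)
  have hyB : y ∉ B := fun h => hx0B (hle B (key B hinv h) h hx0S)
  have hyB2 : y ∉ B2 := fun h => hB0 (by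
    have h1 := hle B2 (key B2 hinv2 h) h
    rw [eq_bot_iff, ← hdisj]
    exact le_inf le_rfl (hBS.trans h1))
  -- components of `y`
  have hyE : y ∈ B ⊔ B2 := by
    rw [hsup]
    exact ⟨hyS, by rw [← hy]; exact pow_orderOf_eq_one y⟩
  have hcomm : ∀ b ∈ B, ∀ c ∈ B2, b * c = c * b := fun b hb c hc => comm_of hS (hBS hb) (hB2E hc).1
  obtain ⟨b, hb, c, hc, hbc⟩ : ∃ b ∈ B, ∃ c ∈ B2, b * c = y := by
    have hn : B2 ≤ normalizer (B : Set G) := by
      intro c hc
      refine mem_normalizer_of_le fun b hb => ?_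
      rw [← hcomm b hb c hc, mul_inv_cancel_right]
      exact hb
    rw [sup_comm, ← SetLike.mem_coe, Subgroup.coe_mul_of_left_le_normalizer_right B2 B hn] at hyE
    obtain ⟨c, hc, b, hb, hbc⟩ := Set.mem_mul.1 hyE
    exact ⟨b, hb, c, hc, by rw [hcomm b hb c hc, hbc]⟩
  have hb1 : b ≠ 1 := fun h => hyB2 (by rw [← hbc, h, one_mul]; exact hc)
  have hc1 : c ≠ 1 := fun h => hyB (by rw [← hbc, h, mul_one]; exact hb)
  have hb' := hinv f hfN b hb
  have hc' := hinv2 f hfN c hc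
  have hfbc : (f * b * f⁻¹) * (f * c * f⁻¹) = b * c := by
    have h1 : (f * b * f⁻¹) * (f * c * f⁻¹) = f * (b * c) * f⁻¹ := by group
    rw [h1, hbc, hfy, mul_inv_cancel_right]
  have h5 : b⁻¹ * (f * b * f⁻¹) = c * (f * c * f⁻¹)⁻¹ := by
    rw [inv_mul_eq_iff_eq_mul, ← mul_assoc, ← hfbc, mul_inv_cancel_right]
  have h6 : b⁻¹ * (f * b * f⁻¹) ∈ B ⊓ B2 :=
    ⟨B.mul_mem (B.inv_mem hb) hb', by rw [h5]; exact B2.mul_mem hc (B2.inv_mem hc')⟩
  rw [hdisj, mem_bot] at h6
  have hfb : f * b * f⁻¹ = b := (inv_mul_eq_one.1 h6).symm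
  have hfc : f * c * f⁻¹ = c := by
    rw [h6] at h5
    exact (mul_inv_eq_one.1 h5.symm).symm
  -- `S = ⟨b, c⟩`
  have hcb : c ∉ zpowers b := fun h => hc1 (by
    have h7 : c ∈ B ⊓ B2 := ⟨(zpowers_le.2 hb) h, hc⟩
    rwa [hdisj, mem_bot] at h7)
  obtain ⟨T, hT⟩ := exists_sylow_sup h3 (orderOf_eq_prime (hBp b hb) hb1) (orderOf_eq_prime (hB2E hc).2 hc1)
    (hcomm b hb c hc) hcb
  have hTS : (T : Subgroup G) ≤ (S : Subgroup G) := by
    rw [hT]
    exact sup_le (zpowers_le.2 (hBS hb)) (zpowers_le.2 (hB2E hc).1)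
  have hTS2 : (T : Subgroup G) = (S : Subgroup G) := by
    refine Subgroup.eq_of_le_of_card_ge hTS ?_
    rw [S.card_eq_multiplicity, T.card_eq_multiplicity]
  have hxT : x ∈ zpowers b ⊔ zpowers c := by
    rw [← hT, hTS2]
    exact hxS
  have hC : zpowers b ⊔ zpowers c ≤ centralizer ({f} : Set G) := by
    refine sup_le (zpowers_le.2 ?_) (zpowers_le.2 ?_)
    · rw [mem_centralizer_singleton_iff]
      exact (mul_inv_eq_iff_eq_mul.1 hfb).symm
    · rw [mem_centralizer_singleton_iff]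
      exact (mul_inv_eq_iff_eq_mul.1 hfc).symm
  exact hfx' (mem_centralizer_singleton_iff.1 (hC hxT)).symm

end Cfsg.Agent.H800.Sp
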