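import Cfsg.Agent.H800.Sp.Base
import Cfsg.Agent.SporRec.Co3.FiveHom

/-!
# The reflection criterion for `AbIrr` in rank two

* `Refl p u` : some element of order `p` of `C(u)` is inverted by an element of `C(u)`;
* `abIrr_of_refl` : `p³ ∤ |G|`, `Refl p u` for all elements `u` of order `p`: `AbIrr p G`;
* `refl_of_path` : `S₅ ≤ C(u)`, from four Coxeter generators.
-/

set_option autoImplicit false

universe u v

namespace Cfsg.Agent.H800.Sp

open Subgroup Cfsg.Agent.H795
open scoped commutatorElement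

/-- some element of order `p` of `C(u)` is inverted by an element of `C(u)` -/
def Refl (p : ℕ) {G : Type*} [Group G] (u : G) : Prop :=
  ∃ x c : G, orderOf x = p ∧ u * x = x * u ∧ u * c = c * u ∧ c * x * c⁻¹ = x⁻¹

theorem Refl.hasReal {p : ℕ} {G : Type*} [Group G] {u : G} (h : Refl p u) : HasReal p G := by
  obtain ⟨x, c, h1, -, -, h2⟩ := h
  exact ⟨x, c, h1, h2⟩

theorem Refl.map {p : ℕ} {G : Type*} [Group G] {G' : Type*} [Group G'] {u : G} (h : Refl p u) (f : G →* G')
    (hf : Function.Injective f) : Refl p (f u) := by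
  obtain ⟨x, c, h1, h2, h3, h4⟩ := h
  refine ⟨f x, f c, by rw [orderOf_injective f hf, h1], by rw [← map_mul, h2, map_mul],
    by rw [← map_mul, h3, map_mul], by rw [← map_mul, ← map_inv, ← map_mul, h4, map_inv]⟩

theorem Refl.conj {p : ℕ} {G : Type*} [Group G] {u v : G} (h : Refl p u) (g : G) (hg : g * u * g⁻¹ = v) :
    Refl p v := by
  have h1 := h.map (MulAut.conj g).toMonoidHom (MulAut.conj g).injective
  have h2 : (MulAut.conj g).toMonoidHom u = v := hg
  rwa [h2] at h1

/-- `u` may be replaced by an element generating the same subgroup -/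
theorem Refl.of_mem {p : ℕ} {G : Type*} [Group G] {u v : G} (h : Refl p u) (hv : v ∈ zpowers u) : Refl p v := by
  obtain ⟨x, c, h1, h2, h3, h4⟩ := h
  obtain ⟨k, rfl⟩ := mem_zpowers_iff.1 hv
  exact ⟨x, c, h1, ((show Commute u x from h2).zpow_left k).eq, ((show Commute u c from h3).zpow_left k).eq, h4⟩

section

variable {G : Type u} [Group G] [Finite G] {p : ℕ} [hp : Fact p.Prime]

/-- **the reflection criterion** -/
theorem abIrr_of_refl (hp2 : p ≠ 2) (h3 : ¬ p ^ 3 ∣ Nat.card G) (h : ∀ u : G, orderOf u = p → Refl p u) :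
    AbIrr p G := by
  classical
  intro S hS B hBS hBp hinv
  by_cases hB0 : B = ⊥
  · exact Or.inl hB0
  right
  by_contra hcon
  push Not at hcon
  obtain ⟨x0, hx0S, hx0p, hx0B⟩ := hcon
  have hBE : B ≤ om p (S : Subgroup G) hS := fun b hb => ⟨hBS hb, hBp b hb⟩
  obtain ⟨B2, hB2E, hinv2, hdisj, hsup⟩ := exists_invariant_compl S hS B hBE hinv
  obtain ⟨b, hb, hb1⟩ : ∃ b ∈ B, b ≠ 1 := by
    by_contra hcon
    push Not at hcon
    exact hB0 ((eq_bot_iff_forall B).2 hcon)
  have hB20 : B2 ≠ ⊥ := by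
    intro h0
    rw [h0, sup_bot_eq] at hsup
    apply hx0B
    rw [hsup]
    exact ⟨hx0S, hx0p⟩
  obtain ⟨c, hc, hc1⟩ : ∃ c ∈ B2, c ≠ 1 := by
    by_contra hcon
    push Not at hcon
    exact hB20 ((eq_bot_iff_forall B2).2 hcon)
  have hb2 : b ∉ B2 := fun h4 => hb1 (by
    have : b ∈ B ⊓ B2 := ⟨hb, h4⟩
    rwa [hdisj, mem_bot] at this)
  have hc2 : c ∉ B := fun h4 => hc1 (by
    have : c ∈ B ⊓ B2 := ⟨h4, hc⟩
    rwa [hdisj, mem_bot] at this)
  have hbcB : b * c ∉ B := fun h4 => hc2 (by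
    have := B.mul_mem (B.inv_mem hb) h4
    rwa [inv_mul_cancel_left] at this)
  have hbcB2 : b * c ∉ B2 := fun h4 => hb2 (by
    have := B2.mul_mem h4 (B2.inv_mem hc)
    rwa [mul_inv_cancel_right] at this)
  set E := om p (S : Subgroup G) hS with hE
  have hbE : b ∈ E := hBE hb
  have hcE : c ∈ E := hB2E hc
  have hbcE : b * c ∈ E := E.mul_mem hbE hcE
  have hbc1 : b * c ≠ 1 := fun h4 => hbcB (by rw [h4]; exact one_mem _)
  have hobc : orderOf (b * c) = p := orderOf_eq_prime hbcE.2 hbc1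
  -- the order of `E`
  have hEp : IsPGroup p E := S.isPGroup'.to_le (fun a ha => ha.1)
  have hcardE : ∀ D : Subgroup G, D ≤ E → Nat.card D = p ^ 2 → D = E := by
    intro D hD hDc
    refine Subgroup.eq_of_le_of_card_ge hD ?_
    obtain ⟨n, hn⟩ := IsPGroup.iff_card.1 hEp
    rw [hDc, hn]
    apply Nat.pow_le_pow_right hp.out.pos
    by_contra hcon
    exact h3 ((pow_dvd_pow p (by omega)).trans (hn ▸ Subgroup.card_subgroup_dvd_card E))
  -- the alternative
  have hyp : ∀ a ∈ E, a ∉ zpowers (b * c) → ∀ y ∈ E, ∃ k : ℤ, y * a ^ k ∈ zpowers (b * c) := by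
    intro a ha haH y hy
    have ha1 : a ≠ 1 := fun h4 => haH (by rw [h4]; exact one_mem _)
    have hoa : orderOf a = p := orderOf_eq_prime ha.2 ha1
    have hcomm : Commute (b * c) a := comm_of hS hbcE.1 ha.1
    have hdis : Disjoint (zpowers (b * c)) (zpowers a) := by
      rw [Subgroup.disjoint_def]
      intro z hz1 hz2
      by_contra hz
      apply haH
      have h5 : zpowers z = zpowers a := by
        refine Subgroup.eq_of_le_of_card_ge (by rwa [zpowers_le]) ?_
        rw [Nat.card_zpowers, Nat.card_zpowers, hoa]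
        have h6 : orderOf z ∣ p := by
          rw [← hoa]
          exact orderOf_dvd_of_mem_zpowers hz2
        rcases (Nat.dvd_prime hp.out).1 h6 with h7 | h7
        · exact absurd (orderOf_eq_one_iff.1 h7) hz
        · exact h7.ge
      have h6 : a ∈ zpowers z := by rw [h5]; exact mem_zpowers a
      exact (zpowers_le.2 hz1) h6
    have hnorm : zpowers a ≤ normalizer ((zpowers (b * c) : Subgroup G) : Set G) := by
      rw [zpowers_le]
      apply centralizer_le_normalizer
      rw [mem_centralizer_iff]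
      intro z hz
      obtain ⟨i, rfl⟩ := mem_zpowers_iff.1 hz
      exact (hcomm.zpow_left i).eq
    have hmul : ∀ z ∈ zpowers (b * c) ⊔ zpowers a, ∃ i j : ℤ, z = (b * c) ^ i * a ^ j := by
      intro z hz
      rw [← SetLike.mem_coe, Subgroup.coe_mul_of_right_le_normalizer_left _ _ hnorm] at hz
      obtain ⟨s, hs, t, ht, rfl⟩ := Set.mem_mul.1 hz
      obtain ⟨i, rfl⟩ := mem_zpowers_iff.1 hs
      obtain ⟨j, rfl⟩ := mem_zpowers_iff.1 ht
      exact ⟨i, j, rfl⟩
    have hcard : Nat.card (zpowers (b * c) ⊔ zpowers a : Subgroup G) = p ^ 2 := by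
      have h5 : zpowers (b * c) < zpowers (b * c) ⊔ zpowers a := by
        refine lt_of_le_of_ne le_sup_left fun h6 => haH ?_
        rw [h6]
        exact mem_sup_right (mem_zpowers a)
      have hle : (zpowers (b * c) ⊔ zpowers a : Subgroup G) ≤ E := by
        rw [sup_le_iff, zpowers_le, zpowers_le]
        exact ⟨hbcE, ha⟩
      obtain ⟨n, hn⟩ := IsPGroup.iff_card.1 (hEp.to_le hle)
      have h6 : p ^ n ∣ Nat.card G := by
        rw [← hn]
        exact Subgroup.card_subgroup_dvd_card _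
      have h7 : Nat.card (zpowers (b * c)) < p ^ n := by
        rw [← hn]
        exact Set.ncard_lt_ncard (SetLike.coe_ssubset_coe.2 h5) (Set.toFinite _)
      rw [Nat.card_zpowers, hobc] at h7
      have h8 : n < 3 := by
        by_contra hcon
        exact h3 ((pow_dvd_pow p (by omega)).trans h6)
      have h9 : 1 < n := (Nat.pow_lt_pow_iff_right hp.out.one_lt).1 (by rwa [pow_one])
      rw [hn]
      congr 1
      omega
    have hle : (zpowers (b * c) ⊔ zpowers a : Subgroup G) ≤ E := by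
      rw [sup_le_iff, zpowers_le, zpowers_le]
      exact ⟨hbcE, ha⟩
    have hy' : y ∈ zpowers (b * c) ⊔ zpowers a := by
      rw [hcardE _ hle hcard]
      exact hy
    obtain ⟨i, j, rfl⟩ := hmul y hy'
    refine ⟨-j, ?_⟩
    rw [mul_assoc, ← zpow_add, add_neg_cancel, zpow_zero, mul_one]
    exact zpow_mem (mem_zpowers _) i
  obtain ⟨x, d, hx, hux, huc, hdx⟩ := h _ hobc
  have hH : ∀ z : G, (b * c) * z = z * (b * c) → ∀ h ∈ zpowers (b * c), h * z = z * h := by
    rintro z hz _ ⟨i, rfl⟩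
    exact ((show Commute (b * c) z from hz).zpow_left i).eq
  have hx1 : x ≠ 1 := by
    rintro rfl
    rw [orderOf_one] at hx
    exact hp.out.one_lt.ne hx
  obtain ⟨n, hn, hnH, hns⟩ := exists_reflection_inv hp2 S hS (zpowers (b * c)) (by
    rw [zpowers_le]
    exact hbcE.1) (hH x hux) (hH d huc) (k := 1) (by rw [pow_one, ← hx, pow_orderOf_eq_one]) hx1 hdx
  rcases le_or_le S hS B B2 (zpowers (b * c)) hBE hB2E hinv hinv2 hdisj hyp hn hnH hns with h4 | h4
  · -- `B ≤ ⟨b c⟩`
    apply hbcB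
    have h5 : zpowers b = zpowers (b * c) := by
      refine Subgroup.eq_of_le_of_card_ge (by rw [zpowers_le]; exact h4 hb) ?_
      rw [Nat.card_zpowers, Nat.card_zpowers, hobc, orderOf_eq_prime hbE.2 hb1]
    have h6 : b * c ∈ zpowers b := by rw [h5]; exact mem_zpowers _
    exact (zpowers_le.2 hb) h6
  · apply hbcB2
    have h5 : zpowers c = zpowers (b * c) := by
      refine Subgroup.eq_of_le_of_card_ge (by rw [zpowers_le]; exact h4 hc) ?_
      rw [Nat.card_zpowers, Nat.card_zpowers, hobc, orderOf_eq_prime hcE.2 hc1]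
    have h6 : b * c ∈ zpowers c := by rw [h5]; exact mem_zpowers _
    exact (zpowers_le.2 hc) h6

end

open Cfsg.Agent.SporRec.Co3.FiveHom (tp exists_hom injective_of tp_dbl) in
/-- four Coxeter generators of `S₅` commuting with `u`: the elements are in `G'` -/
theorem refl_of_path_comm {G : Type u} [Group G] {u : G} (r : Fin 4 → G) (hc : ∀ i, u * r i = r i * u)
    (h1 : ∀ i, r i * r i = 1) (h2 : ∀ i j : Fin 4, i.val + 1 < j.val → r i * r j = r j * r i)
    (h3 : ∀ i j : Fin 4, i.val + 1 = j.val → r i * r j * r i = r j * r i * r j) (h02 : r 0 ≠ r 2) :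
    ∃ x c : G, x ∈ commutator G ∧ c ∈ commutator G ∧ orderOf x = 5 ∧ u * x = x * u ∧ u * c = c * u ∧
      c * x * c⁻¹ = x⁻¹ := by
  obtain ⟨f, hf, hrange⟩ := exists_hom r h1 h2 h3
  have hinj : Function.Injective f := by
    apply injective_of
    rw [← tp_dbl, map_mul, hf, hf]
    intro h
    apply h02
    rw [eq_inv_of_mul_eq_one_left h]
    exact inv_eq_iff_mul_eq_one.2 (h1 2)
  have hcom : ∀ y ∈ f.range, u * y = y * u := by
    intro y hy
    rw [hrange] at hy
    have h4 : Subgroup.closure (Set.range r) ≤ centralizer ({u} : Set G) := by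
      rw [closure_le]
      rintro _ ⟨i, rfl⟩
      exact mem_centralizer_singleton_iff.2 (hc i).symm
    exact (mem_centralizer_singleton_iff.1 (h4 hy)).symm
  have key : ∃ x c a g : Equiv.Perm (Fin 5), x ^ 5 = 1 ∧ x ≠ 1 ∧ c * x * c⁻¹ = x⁻¹ ∧ c = ⁅a, g⁆ := by
    refine ⟨Equiv.swap 0 1 * Equiv.swap 1 2 * Equiv.swap 2 3 * Equiv.swap 3 4, Equiv.swap 0 4 * Equiv.swap 1 3,
      Equiv.swap 0 4, Equiv.swap 0 1 * Equiv.swap 3 4, ?_, ?_, ?_, ?_⟩
      <;> decide +kernel
  obtain ⟨x, c, a, g, hx5, hx1, hcx, hcg⟩ := key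
  have hF : Fact (Nat.Prime 5) := ⟨Nat.prime_five⟩
  have hfx5 : f x ^ 5 = 1 := by rw [← map_pow, hx5, map_one]
  have hinv : f c * f x * (f c)⁻¹ = (f x)⁻¹ := by rw [← map_mul, ← map_inv, ← map_mul, hcx, map_inv]
  refine ⟨f x, f c, ?_, ?_, by rw [orderOf_injective f hinj, orderOf_eq_prime hx5 hx1], hcom _ ⟨x, rfl⟩,
    hcom _ ⟨c, rfl⟩, hinv⟩
  · have h4 : ⁅f c, f x⁆ ∈ commutator G := Subgroup.commutator_mem_commutator (mem_top _) (mem_top _)
    have h5 : ⁅f c, f x⁆ ^ 2 = f x := by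
      rw [commutatorElement_def, hinv]
      have h6 : ((f x)⁻¹ * (f x)⁻¹) ^ 2 = (f x ^ 5)⁻¹ * f x := by group
      rw [h6, hfx5, inv_one, one_mul]
    rw [← h5]
    exact pow_mem h4 2
  · rw [hcg, map_commutatorElement]
    exact Subgroup.commutator_mem_commutator (mem_top _) (mem_top _)

/-- four Coxeter generators of `S₅` commuting with `u` -/
theorem refl_of_path {G : Type u} [Group G] {u : G} (r : Fin 4 → G) (hc : ∀ i, u * r i = r i * u)
    (h1 : ∀ i, r i * r i = 1) (h2 : ∀ i j : Fin 4, i.val + 1 < j.val → r i * r j = r j * r i)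
    (h3 : ∀ i j : Fin 4, i.val + 1 = j.val → r i * r j * r i = r j * r i * r j) (h02 : r 0 ≠ r 2) : Refl 5 u := by
  obtain ⟨x, c, -, -, h⟩ := refl_of_path_comm r hc h1 h2 h3 h02
  exact ⟨x, c, h⟩

end Cfsg.Agent.H800.Sp
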