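import Cfsg.Agent.H800.Sp.Base
import Cfsg.Agent.BpSevenCo.Conj
import Cfsg.Agent.CpAutMSeven.RanksClass

/-!
The prime 7 in `Co1`: two classes of subgroups of order 7.
-/

set_option autoImplicit false

namespace Cfsg.Agent.H800.Sp.CoOne

open Subgroup Cfsg.Agent.H800.Sp Cfsg.Agent.H795
open Cfsg.Agent.CpAutBig.SevenFix
open Cfsg.Agent.LThreeMB (fr fr_conj)
open Cfsg.Spor (Co1)

theorem abIrr' : AbIrr 7 Co1 := by
  have hfin : Finite Co1 := BpSevenCo.Conj.finite_co1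
  have h7 : Fact (Nat.Prime 7) := ⟨by norm_num⟩
  refine abIrr_of_two BpSevenCo.Conj.orderOf_x CpAutMSeven.Ranks.orderOf_mk_r7 fun s hs => ?_
  by_cases h : fr s = 1
  · obtain ⟨g, i, -, hg⟩ := BpSevenCo.Conj.conj_pow hs h
    exact Or.inl ⟨g, by rw [hg]; exact npow_mem_zpowers _ _⟩
  · obtain ⟨g, hg⟩ := isConj_iff.1 (CpAutMSeven.Ranks.isConj_of_fr hs h)
    exact Or.inr ⟨g, by rw [hg]; exact mem_zpowers _⟩

/-- **the row `(Co1, 7)`** -/
theorem abIrr {G : Type*} [Group G] (h : Cfsg.Spor.IsoCo1 G) : AbIrr 7 G :=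
  AbIrr.of_mulEquiv h.some.symm abIrr'

theorem hasReal {G : Type*} [Group G] (h : Cfsg.Spor.IsoCo1 G) : HasReal 7 G := by
  obtain ⟨g, hg⟩ := isConj_iff.1 (CpAutMSeven.Ranks.isConj_pow (n := 6) (by norm_num))
  refine HasReal.of_mulEquiv h.some.symm
    ⟨QuotientGroup.mk r7, QuotientGroup.mk g, CpAutMSeven.Ranks.orderOf_mk_r7, ?_⟩
  rw [← QuotientGroup.mk_inv, ← QuotientGroup.mk_mul, ← QuotientGroup.mk_mul, ← QuotientGroup.mk_inv, hg]
  congr 1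
  refine eq_inv_of_mul_eq_one_left ?_
  rw [← pow_succ, r7_pow]

end Cfsg.Agent.H800.Sp.CoOne
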