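import Cfsg.Agent.H800.Sp.Refl
import Cfsg.Agent.H841.Phi

/-!
The prime 5 in `Fi24'`.
-/

set_option autoImplicit false

namespace Cfsg.Agent.H800.Sp.FiTF

open Cfsg Cfsg.Agent.LThreeFi24.SNine
open Cfsg.Agent.LThreeFi24.FiveConj (exists_conj_five finite)
open Cfsg.Agent.H841.Five
open Cfsg.Spor (Fi24)
open Cfsg.Agent.H800.Sp Cfsg.Agent.H795
open Equiv Subgroup
open scoped commutatorElement

/-- elements of `Fi24'` of order 5 and 2 in `C(y0)` -/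
theorem refl_y0 : ∃ x c : Fi24, x ∈ commutator Fi24 ∧ c ∈ commutator Fi24 ∧ orderOf x = 5 ∧ y0 * x = x * y0 ∧
    y0 * c = c * y0 ∧ c * x * c⁻¹ = x⁻¹ := by
  have key : ∃ x c a g : Perm (Fin 9), x ^ 5 = 1 ∧ x ≠ 1 ∧ c * x * c⁻¹ = x⁻¹ ∧ c = ⁅a, g⁆ := by
    refine ⟨swap 0 1 * swap 1 2 * swap 2 3 * swap 3 4, swap 0 4 * swap 1 3, swap 0 4, swap 0 1 * swap 3 4, ?_, ?_, ?_, ?_⟩
      <;> decide +kernel
  obtain ⟨x, c, a, g, hx5, hx1, hcx, hcg⟩ := key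
  have hF : Fact (Nat.Prime 5) := ⟨Nat.prime_five⟩
  have hfx5 : Phi x ^ 5 = 1 := by rw [← map_pow, hx5, map_one]
  have hinv : Phi c * Phi x * (Phi c)⁻¹ = (Phi x)⁻¹ := by rw [← map_mul, ← map_inv, ← map_mul, hcx, map_inv]
  refine ⟨Phi x, Phi c, ?_, ?_, by rw [orderOf_injective Phi Phi_injective, orderOf_eq_prime hx5 hx1],
    (Phi_comm_y0 x).eq.symm, (Phi_comm_y0 c).eq.symm, hinv⟩
  · have h4 : ⁅Phi c, Phi x⁆ ∈ commutator Fi24 := Subgroup.commutator_mem_commutator (mem_top _) (mem_top _)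
    have h5 : ⁅Phi c, Phi x⁆ ^ 2 = Phi x := by
      rw [commutatorElement_def, hinv]
      have h6 : ((Phi x)⁻¹ * (Phi x)⁻¹) ^ 2 = (Phi x ^ 5)⁻¹ * Phi x := by group
      rw [h6, hfx5, inv_one, one_mul]
    rw [← h5]
    exact pow_mem h4 2
  · rw [hcg, map_commutatorElement]
    exact Subgroup.commutator_mem_commutator (mem_top _) (mem_top _)

theorem refl {u : Spor.Fi24'} (hu : orderOf u = 5) : Refl 5 u := by
  obtain ⟨x, c, hx, hc, hx5, hux, huc, hcx⟩ := refl_y0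
  obtain ⟨g, hg⟩ := exists_conj_five (y := (u : Fi24)) (by rw [Subgroup.orderOf_coe, hu])
  have hn : ∀ z : Fi24, z ∈ commutator Fi24 → g⁻¹ * z * g ∈ commutator Fi24 := by
    intro z hz
    have := (inferInstance : (commutator Fi24).Normal).conj_mem z hz g⁻¹
    rwa [inv_inv] at this
  have hug : (u : Fi24) = g⁻¹ * y0 * g := by rw [← hg]; group
  have hcomm : ∀ z : Fi24, y0 * z = z * y0 → (u : Fi24) * (g⁻¹ * z * g) = (g⁻¹ * z * g) * u := by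
    intro z hz
    rw [hug]
    calc g⁻¹ * y0 * g * (g⁻¹ * z * g) = g⁻¹ * (y0 * z) * g := by group
      _ = g⁻¹ * (z * y0) * g := by rw [hz]
      _ = g⁻¹ * z * g * (g⁻¹ * y0 * g) := by group
  refine ⟨⟨_, hn x hx⟩, ⟨_, hn c hc⟩, ?_, Subtype.ext (hcomm x hux), Subtype.ext (hcomm c huc), Subtype.ext ?_⟩
  · rw [Subgroup.orderOf_mk, ← hx5]
    have h1 := conj_order g⁻¹ x
    rwa [inv_inv] at h1
  · show (g⁻¹ * c * g) * (g⁻¹ * x * g) * (g⁻¹ * c * g)⁻¹ = (g⁻¹ * x * g)⁻¹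
    calc (g⁻¹ * c * g) * (g⁻¹ * x * g) * (g⁻¹ * c * g)⁻¹ = g⁻¹ * (c * x * c⁻¹) * g := by group
      _ = (g⁻¹ * x * g)⁻¹ := by rw [hcx]; group

theorem abIrr' : AbIrr 5 Spor.Fi24' := by
  have h5 : Fact (Nat.Prime 5) := ⟨Nat.prime_five⟩
  have hfin : Finite Fi24 := finite
  refine abIrr_of_refl (by norm_num) ?_ fun u hu => refl hu
  rw [Cfsg.Agent.R08.FiTwentyFour.card_commutator]
  norm_num

theorem abIrr {G : Type*} [Group G] (h : Spor.IsoFi24' G) : AbIrr 5 G :=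
  AbIrr.of_mulEquiv h.some.symm abIrr'

theorem hasReal {G : Type*} [Group G] (h : Spor.IsoFi24' G) : HasReal 5 G := by
  have h5 : Fact (Nat.Prime 5) := ⟨Nat.prime_five⟩
  have hfin : Finite Fi24 := finite
  obtain ⟨u, hu⟩ := exists_prime_orderOf_dvd_card' 5 (G := Spor.Fi24') (by
    rw [Cfsg.Agent.R08.FiTwentyFour.card_commutator]; norm_num)
  exact HasReal.of_mulEquiv h.some.symm (refl hu).hasReal

end Cfsg.Agent.H800.Sp.FiTF
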