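import Cfsg.Agent.H800.Sp.Refl
import Cfsg.Agent.LThreeFi22.Inst

/-!
The prime 5 in `Fi22`: for `u` of order 5 the transpositions commuting with `u` generate `S₅`.
(The first lemmas are copied from helper36's `BpSpor.FiTT`.)
-/

set_option autoImplicit false

namespace Cfsg.Agent.H800.Sp.FiTT

open Subgroup Cfsg Equiv
open Cfsg.Agent.LThreeFi22
open Cfsg.Agent.H800.Sp Cfsg.Agent.H795

universe v

variable {K : Type v} [Group K] {T : Set K}

/-- commuting elements `x`, `y` with `x ^ 3 = y ^ 3 = 1` generating more than `⟨x⟩` -/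
theorem nine_dvd {H : Type*} [Group H] [Finite H] {x y : H} (hx : x ^ 3 = 1) (hy : y ^ 3 = 1) (hx1 : x ≠ 1)
    (hxy : x * y = y * x) (hne : y ∉ zpowers x) : 9 ∣ Nat.card H := by
  have : Fact (Nat.Prime 3) := ⟨Nat.prime_three⟩
  have ho : orderOf x = 3 := orderOf_eq_prime hx hx1
  have hc : ∀ a ∈ zpowers x, ∀ b ∈ zpowers y, a * b = b * a := by
    rintro _ ⟨i, rfl⟩ _ ⟨j, rfl⟩
    exact ((show Commute x y from hxy).zpow_zpow i j).eq
  have hle : zpowers y ≤ normalizer (zpowers x : Set H) := by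
    intro b hb
    rw [mem_normalizer_iff]
    intro a
    constructor
    · intro ha
      rw [← hc a ha b hb, mul_inv_cancel_right]
      exact ha
    · intro ha
      have h1 := hc _ ha b hb
      have h2 : b * a * b⁻¹ = a := by
        have h3 : b * a * b⁻¹ * b = b * (b * a * b⁻¹) := h1
        have h4 : a = b * a * b⁻¹ := by
          have h5 : b * a = b * (b * a * b⁻¹) := by
            rw [← h3]
            group
          exact mul_left_cancel h5
        exact h4.symm
      rwa [h2] at ha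
  have hPx : IsPGroup 3 ↥(zpowers x) := IsPGroup.of_card (n := 1) (by rw [Nat.card_zpowers, ho, pow_one])
  have hPy : IsPGroup 3 ↥(zpowers y) := by
    obtain ⟨m, hm, hm'⟩ := (Nat.dvd_prime_pow Nat.prime_three).1 (orderOf_dvd_of_pow_eq_one (by rw [pow_one]; exact hy : y ^ 3 ^ 1 = 1))
    exact IsPGroup.of_card (n := m) (by rw [Nat.card_zpowers, hm'])
  have hP : IsPGroup 3 ↥(zpowers x ⊔ zpowers y : Subgroup H) := hPx.to_sup_of_normal_left' hPy hle
  obtain ⟨m, hm⟩ := IsPGroup.iff_card.1 hP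
  have hlt : Nat.card ↥(zpowers x) < Nat.card ↥(zpowers x ⊔ zpowers y : Subgroup H) := by
    refine lt_of_le_of_ne (card_le_of_le le_sup_left) ?_
    intro h1
    apply hne
    have h3 : zpowers x = zpowers x ⊔ zpowers y := eq_of_le_of_card_ge le_sup_left h1.ge
    rw [h3]
    exact mem_sup_right (mem_zpowers y)
  have hm2 : 2 ≤ m := by
    by_contra h1
    rw [hm, Nat.card_zpowers, ho] at hlt
    have : 3 ^ m ≤ 3 ^ 1 := Nat.pow_le_pow_right (by norm_num) (by omega)
    omega
  refine (pow_dvd_pow 3 hm2).trans ?_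
  rw [← hm]
  exact card_subgroup_dvd_card _

section five

variable (C : Ctx K T) {u : K} (hu : u ^ 5 = 1) (hu1 : u ≠ 1)
include C hu hu1

/-- no two orthogonal noncommuting pairs -/
theorem no_sq {a b c d : K} (ha : a ∈ Fx T u) (hb : b ∈ Fx T u) (hc : c ∈ Fx T u) (hd : d ∈ Fx T u) (hab : a * b ≠ b * a)
    (hcd : c * d ≠ d * c) (hac : a * c = c * a) (had : a * d = d * a) (hbc : b * c = c * b) (hbd : b * d = d * b) : False := by
  have := C.finite
  apply C.nine_five hu hu1
  have h3 : (a * b) ^ 3 = 1 := C.cube ha.1 hb.1 hab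
  have h4 : (c * d) ^ 3 = 1 := C.cube hc.1 hd.1 hcd
  have m1 : a * b ∈ centralizer ({u} : Set K) := by
    rw [mem_centralizer_singleton_iff, mul_assoc, ← hb.2, ← mul_assoc, ← ha.2, mul_assoc]
  have m2 : c * d ∈ centralizer ({u} : Set K) := by
    rw [mem_centralizer_singleton_iff, mul_assoc, ← hd.2, ← mul_assoc, ← hc.2, mul_assoc]
  have e1 : Commute a (c * d) := (show Commute a c from hac).mul_right had
  have e2 : Commute b (c * d) := (show Commute b c from hbc).mul_right hbd
  refine nine_dvd (x := (⟨a * b, m1⟩ : ↥(centralizer ({u} : Set K)))) (y := ⟨c * d, m2⟩) (Subtype.ext h3) (Subtype.ext h4) ?_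
    (Subtype.ext (e1.mul_left e2).eq) ?_
  · intro h
    apply hab
    have h5 : a * b = 1 := congrArg Subtype.val h
    have h6 : a = b⁻¹ := eq_inv_of_mul_eq_one_left h5
    rw [h6, inv_mul_cancel, mul_inv_cancel]
  · rintro ⟨i, hi⟩
    have h5 : (a * b) ^ i = c * d := congrArg Subtype.val hi
    -- `c d` commutes with `a b` and with `c`, `d`
    have h6 : Commute (c * d) c := by
      rw [← h5]
      have e3 : Commute (a * b) c := (show Commute a c from hac).mul_left hbc
      exact e3.zpow_left i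
    apply hcd
    have h7 : c * d * c = c * (c * d) := h6.eq
    have h8 : d * c = c * d := by
      rw [mul_assoc] at h7
      exact mul_left_cancel h7
    exact h8.symm

theorem exists_ne {d : K} (e : K) (hd : d ∈ Fx T u) : ∃ c ∈ Fx T u, c ≠ d ∧ d * c = c * d ∧ c ≠ e := by
  have := C.finite
  have h := C.five_link hu hu1 hd
  by_contra hcon
  push Not at hcon
  have h1 : {c | c ∈ Fx T u ∧ c ≠ d ∧ d * c = c * d} ⊆ {e} := fun c hc => hcon c hc.1 hc.2.1 hc.2.2
  have h2 := Set.ncard_le_ncard h1 (Set.toFinite _)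
  rw [h, Set.ncard_singleton] at h2
  omega

theorem exists_path : ∃ r : Fin 4 → K, (∀ i, r i ∈ Fx T u) ∧ (∀ i j : Fin 4, i.val + 1 < j.val → r i * r j = r j * r i) ∧
    (∀ i j : Fin 4, i.val + 1 = j.val → r i * r j ≠ r j * r i) ∧ r 0 ≠ r 2 := by
  obtain ⟨d, hd1, hd2⟩ := C.ex5 u hu hu1
  have hd : d ∈ Fx T u := ⟨hd1, hd2⟩
  obtain ⟨a, ha, had, hda, -⟩ := exists_ne C hu hu1 d hd
  obtain ⟨c, hc, hca, hac, hcd⟩ := exists_ne C hu hu1 d ha
  obtain ⟨b, hb, hbd, hdb, hba⟩ := exists_ne C hu hu1 a hd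
  have nab : a * b ≠ b * a := fun h => hba (C.five_free hu hu1 hd hb ha hbd had hdb hda h.symm)
  have ncd : c * d ≠ d * c := fun h => hcd (C.five_free hu hu1 ha hc hd hca had.symm hac hda.symm h)
  have nbc : b * c ≠ c * b := fun h => no_sq C hu hu1 ha hb hc hd nab ncd hac hda.symm h hdb.symm
  refine ⟨![a, b, c, d], ?_, ?_, ?_, ?_⟩
  · intro i
    fin_cases i
    · exact ha
    · exact hb
    · exact hc
    · exact hd
  · intro i j hij
    fin_cases i <;> fin_cases j <;> first | exact absurd hij (by decide) | skip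
    · exact hac
    · exact hda.symm
    · exact hdb.symm
  · intro i j hij
    fin_cases i <;> fin_cases j <;> first | exact absurd hij (by decide) | skip
    · exact nab
    · exact nbc
    · exact ncd
  · exact hca.symm

theorem refl : Refl 5 u := by
  obtain ⟨r, hr, hc, hn, h02⟩ := exists_path C hu hu1
  exact refl_of_path r (fun i => (hr i).2) (fun i => C.sq _ (hr i).1) hc
    (fun i j hij => (C.three _ (hr i).1 _ (hr j).1).resolve_left (hn i j hij)) h02

end five

theorem abIrr {G : Type v} [Group G] [Finite G] (h : Spor.IsoFi22 G) : AbIrr 5 G := by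
  have h5 : Fact (Nat.Prime 5) := ⟨Nat.prime_five⟩
  obtain ⟨e⟩ := h
  have C := Cfsg.Agent.LThreeFi22.Inst.ctx e
  refine abIrr_of_refl (by norm_num) (by rw [C.card]; norm_num) fun u hu => ?_
  exact refl C (by rw [← hu, pow_orderOf_eq_one]) (by
    rintro rfl
    rw [orderOf_one] at hu
    omega)

theorem hasReal {G : Type v} [Group G] [Finite G] (h : Spor.IsoFi22 G) : HasReal 5 G := by
  have h5 : Fact (Nat.Prime 5) := ⟨Nat.prime_five⟩
  obtain ⟨e⟩ := h
  have C := Cfsg.Agent.LThreeFi22.Inst.ctx e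
  obtain ⟨u, hu⟩ := exists_prime_orderOf_dvd_card' 5 (G := G) (by rw [C.card]; norm_num)
  exact (refl C (by rw [← hu, pow_orderOf_eq_one]) (by
    rintro rfl
    rw [orderOf_one] at hu
    omega)).hasReal

end Cfsg.Agent.H800.Sp.FiTT
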