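import Cfsg.Agent.H800.Sp.Refl
import Cfsg.Agent.BpSpor.FiTThFive

/-!
The prime 5 in `Fi23`: `S₇ ≤ C(y)`, `y` of order 5.
-/

set_option autoImplicit false

namespace Cfsg.Agent.H800.Sp.FiTTh

open Subgroup Cfsg Cfsg.Agent.LThreeFi23 Cfsg.Agent.BpSpor.Fi23 Cfsg.Agent.BpSpor.Fi23.Chk
open Cfsg.Agent.CpAutFiSeven (Tri)
open Cfsg.Agent.H800.Sp Cfsg.Agent.H795

theorem sq (i j : Fin 7) : t0 i j * t0 i j = 1 := T_sq (chkLt _ (chkIx i j).1)

theorem inv (i j : Fin 7) : (t0 i j)⁻¹ = t0 i j := inv_eq_of_mul_eq_one_left (sq i j)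

/-- the four generators -/
noncomputable def r (i : Fin 4) : Spor.Fi23 := t0 (Fin.castLE (by norm_num) i) (Fin.castLE (by norm_num) i.succ)

theorem ne (i : Fin 4) : (Fin.castLE (by norm_num) i : Fin 7) ≠ (Fin.castLE (by norm_num) i.succ : Fin 7) := by
  revert i
  decide

theorem refl0 : Refl 5 (elw y5) := by
  refine refl_of_path r (fun i => tri0.comm _ _ (ne i)) (fun i => sq _ _) ?_ ?_ ?_
  · intro i j hij
    have h := tri0.conj _ _ _ _ (ne i) (ne j)
    have h1 : ∀ i j : Fin 4, i.val + 1 < j.val →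
        (Equiv.swap (Fin.castLE (by norm_num) i : Fin 7) (Fin.castLE (by norm_num) i.succ) (Fin.castLE (by norm_num) j)
          = Fin.castLE (by norm_num) j) ∧
        (Equiv.swap (Fin.castLE (by norm_num) i : Fin 7) (Fin.castLE (by norm_num) i.succ) (Fin.castLE (by norm_num) j.succ)
          = Fin.castLE (by norm_num) j.succ) := by decide
    rw [(h1 i j hij).1, (h1 i j hij).2] at h
    exact mul_inv_eq_iff_eq_mul.1 h
  · intro i j hij
    have h := tri0.conj _ _ _ _ (ne i) (ne j)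
    have h' := tri0.conj _ _ _ _ (ne j) (ne i)
    rw [inv] at h h'
    refine h.trans (Eq.trans ?_ h'.symm)
    have h1 : ∀ i j : Fin 4, i.val + 1 = j.val →
        (Equiv.swap (Fin.castLE (by norm_num) i : Fin 7) (Fin.castLE (by norm_num) i.succ) (Fin.castLE (by norm_num) j)
          = Equiv.swap (Fin.castLE (by norm_num) j : Fin 7) (Fin.castLE (by norm_num) j.succ) (Fin.castLE (by norm_num) i)) ∧
        (Equiv.swap (Fin.castLE (by norm_num) i : Fin 7) (Fin.castLE (by norm_num) i.succ) (Fin.castLE (by norm_num) j.succ)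
          = Equiv.swap (Fin.castLE (by norm_num) j : Fin 7) (Fin.castLE (by norm_num) j.succ)
            (Fin.castLE (by norm_num) i.succ)) := by decide
    rw [(h1 i j hij).1, (h1 i j hij).2]
  · intro h
    rcases tri0.inj _ _ _ _ (ne 0) (ne 2) h with h1 | h1
    · exact absurd h1.1 (by decide)
    · exact absurd h1.1 (by decide)

theorem refl {x : Spor.Fi23} (hx : orderOf x = 5) : Refl 5 x := by
  have hF : Fact (Nat.Prime 5) := ⟨Nat.prime_five⟩
  have hx5 : x ^ 5 = 1 := by rw [← hx, pow_orderOf_eq_one]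
  obtain ⟨g, i, hg⟩ := conj_five hx5
  have h1 : Refl 5 (g * x * g⁻¹) := refl0.of_mem (by rw [hg]; exact zpow_mem (mem_zpowers _) i)
  exact h1.conj g⁻¹ (by group)

theorem abIrr' : AbIrr 5 Spor.Fi23 := by
  have h5 : Fact (Nat.Prime 5) := ⟨Nat.prime_five⟩
  refine abIrr_of_refl (by norm_num) ?_ fun u hu => refl hu
  rw [card_G]
  norm_num

theorem abIrr {G : Type*} [Group G] (h : Spor.IsoFi23 G) : AbIrr 5 G :=
  AbIrr.of_mulEquiv h.some.symm abIrr'

theorem hasReal {G : Type*} [Group G] (h : Spor.IsoFi23 G) : HasReal 5 G :=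
  HasReal.of_mulEquiv h.some.symm refl0.hasReal

end Cfsg.Agent.H800.Sp.FiTTh
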