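import Cfsg.Agent.H800.Sp.AltSix
import Cfsg.Agent.KFacts.HS.DFour

/-!
The prime 3 in the Higman–Sims group: `A₆` contains a Sylow 3-subgroup.
-/

set_option autoImplicit false

namespace Cfsg.Agent.H800.Sp.HS

open Cfsg.Agent.H800.Sp Cfsg.Agent.H795 Cfsg.Agent.KFacts.HS Cfsg.Agent.KFacts.HS.DFour

instance instFactPrimeThree : Fact (Nat.Prime 3) := ⟨Nat.prime_three⟩

theorem abIrr {G : Type*} [Group G] [Finite G] (h : Cfsg.Spor.IsoHS G) : AbIrr 3 G := by
  obtain ⟨D⟩ := exists_mod h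
  refine AbIrr.of_subgroup (H := LA D) ?_ (AbIrr.of_mulEquiv (MonoidHom.ofInjective (rho_inj D)) AltSix.abIrr)
  have h1 := Subgroup.card_mul_index (LA D)
  rw [card_LA, Cfsg.Agent.KFacts.HS.card h] at h1
  have h2 : (LA D).index = 123200 := by omega
  rw [h2]
  norm_num

theorem hasReal {G : Type*} [Group G] [Finite G] (h : Cfsg.Spor.IsoHS G) : HasReal 3 G := by
  obtain ⟨D⟩ := exists_mod h
  exact HasReal.of_subgroup (H := LA D) (HasReal.of_mulEquiv (MonoidHom.ofInjective (rho_inj D)) AltSix.hasReal)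

end Cfsg.Agent.H800.Sp.HS
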