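import Cfsg.Agent.H800.Sp.Rot
import Cfsg.Agent.KFacts.He.Words
import Cfsg.Agent.KFacts.He.Lv
import Cfsg.Agent.KFacts.He.Cent

/-!
The prime 5 in the Held group: `a = (cd)²` of order 5, `n a n⁻¹ = b` commutes with `a`, `n b n⁻¹ = (a b)⁻¹`.
-/

set_option autoImplicit false
set_option maxRecDepth 100000

namespace Cfsg.Agent.H800.Sp.He

open Cfsg.Spor Cfsg.Spor.He Cfsg.Agent.SporadicB.HePerm Cfsg.Agent.HeldHe.Model
open Cfsg.Agent.KFacts.He.Words Cfsg.Agent.KFacts.He.Lv
open Cfsg.Agent.H800.Sp Cfsg.Agent.H795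

/-- apply the letters of `r` to a point, the first letter acts first -/
noncomputable def wk (r : List Gen) : ℕ → ℕ :=
  List.rec (motive := fun _ => ℕ → ℕ) (fun i => i)
    (fun x _ ih i => Nat.rec (motive := fun _ => ℕ) (ih 0) (fun j _ => ih (Nat.succ j)) (look (tab x) i)) r

theorem wk_cons (x : Gen) (r : List Gen) (i : ℕ) : wk (x :: r) i = wk r (look (tab x) i) := by
  show Nat.rec (motive := fun _ => ℕ) (wk r 0) (fun j _ => wk r (Nat.succ j)) (look (tab x) i) = _
  rcases look (tab x) i with _ | j <;> rfl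

theorem wk_append (r s : List Gen) (i : ℕ) : wk (r ++ s) i = wk s (wk r i) := by
  induction r generalizing i with
  | nil => rfl
  | cons x r ih => rw [List.cons_append, wk_cons, ih, wk_cons]

theorem wk_reverse (r : List Gen) (i : ℕ) : wk r.reverse i = act r i := by
  induction r with
  | nil => rfl
  | cons x r ih => rw [List.reverse_cons, wk_append, ih, wk_cons, act_cons]; rfl

/-- two words have the same value: check on the base points -/
noncomputable def eqG (u v : List Gen) : Bool :=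
  Nat.beq (wk u.reverse 0) (wk v.reverse 0) && (Nat.beq (wk u.reverse 1) (wk v.reverse 1) &&
    (Nat.beq (wk u.reverse 32) (wk v.reverse 32) && Nat.beq (wk u.reverse 8) (wk v.reverse 8)))

theorem geq {u v : List Gen} (h : eqG u v = true) : wd u = wd v := by
  unfold eqG at h
  simp only [Bool.and_eq_true, Nat.beq_eq, wk_reverse] at h
  obtain ⟨h0, h1, h2, h3⟩ := h
  refine eq_of_base ?_ ?_ ?_ ?_ <;> apply Fin.ext <;> rw [phi_wd_apply, phi_wd_apply]
  · exact h0
  · exact h1
  · exact h2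
  · exact h3

/-- the word of `a` -/
def X : List Gen := [.c, .d, .c, .d]

/-- the word of `n` -/
def W : List Gen := [
  .a, .d, .a, .g, .b, .d, .e, .b, .c, .f, .a, .b, .d, .e, .c, .d, .f, .g, .d, .e, .c, .f, .d, .f, .d, .b, .e,
  .b, .g, .c, .f, .b, .g, .f, .a, .d, .g, .e, .b, .e, .b, .c, .f, .g, .e, .f, .f, .g, .e, .a, .g, .f, .d, .f,
  .b, .e, .a, .f, .g, .f, .b, .a, .b, .f, .a, .d, .f, .g, .f, .c, .e, .b, .e, .a, .b, .f, .b, .d, .e, .g, .d,
  .c, .f, .e, .g, .f, .e, .g, .c, .b, .c, .g, .d, .e, .b, .d, .c, .f, .a, .e, .c, .b, .d, .b, .e, .g, .f, .c,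
  .d, .c, .d, .f, .g, .e, .b, .d, .b, .c, .e, .a, .f, .c, .d, .b, .e, .d, .g, .c, .b, .c, .g, .e, .f, .g, .e,
  .f, .c, .d, .g, .e, .d, .b, .f, .b, .a, .e, .b, .e, .c, .f, .g, .f, .d, .a, .f, .b, .a, .b, .f, .g, .f, .a,
  .e, .b, .f, .d, .f, .g, .a, .e, .g, .f]

theorem chk1 : eqG (X ++ (X ++ (X ++ (X ++ X)))) [] = true := by decide +kernel

theorem chk2 : eqG (W ++ W.reverse) [] = true := by decide +kernel

theorem chk3 : eqG (X ++ (W ++ (X ++ W.reverse))) (W ++ (X ++ (W.reverse ++ X))) = true := by decide +kernel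

theorem chk4 : eqG (X ++ (W ++ (X ++ (W ++ (X ++ W))))) (W ++ (W ++ W)) = true := by decide +kernel

theorem chk5 : Nat.beq (wk X.reverse 1) 1 = false := by decide +kernel

theorem a_pow : wd X ^ 5 = 1 := by
  have h := geq chk1
  simp only [wd_append, wd_nil] at h
  rw [← h]
  simp only [pow_succ, pow_zero, one_mul, mul_assoc]

theorem a_ne : wd X ≠ 1 := by
  intro h
  have h1 := phi_wd_apply X 1
  rw [h, map_one phi, ← wk_reverse] at h1
  have h2 := chk5
  rw [show wk X.reverse 1 = 1 from h1.symm] at h2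
  exact absurd h2 (by decide)

theorem hirr : ∀ k : ZMod 5, k ^ 2 + k + 1 ≠ 0 := by decide

theorem abIrr' : AbIrr 5 Cfsg.Spor.He := by
  have h5 : Fact (Nat.Prime 5) := ⟨Nat.prime_five⟩
  have hc : Nat.card Cfsg.Spor.He = 4030387200 := Cfsg.Agent.KFacts.He.Cent.card_He
  have hfin : Finite Cfsg.Spor.He := Nat.finite_of_card_ne_zero (by rw [hc]; norm_num)
  have hW : (wd W)⁻¹ = wd W.reverse := by
    have h := geq chk2
    rw [wd_append, wd_nil] at h
    exact inv_eq_of_mul_eq_one_right h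
  refine abIrr_of_rot_three (a := wd X) (n := wd W) (by rw [hc]; norm_num) (orderOf_eq_prime a_pow a_ne)
    hirr ?_ ?_
  · have h := geq chk3
    simp only [wd_append] at h
    rw [hW]
    simp only [mul_assoc]
    exact h
  · have h := geq chk4
    simp only [wd_append] at h
    simp only [mul_assoc]
    exact h

/-- **the row `(He, 5)`** -/
theorem abIrr {G : Type*} [Group G] (h : Cfsg.Spor.IsoHe G) : AbIrr 5 G :=
  AbIrr.of_mulEquiv h.some.symm abIrr'

theorem chk6 : eqG (.c :: (X ++ (.c :: X))) [] = true := by decide +kernel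

theorem hasReal {G : Type*} [Group G] (h : Cfsg.Spor.IsoHe G) : HasReal 5 G := by
  have h5 : Fact (Nat.Prime 5) := ⟨Nat.prime_five⟩
  refine HasReal.of_mulEquiv h.some.symm ⟨wd X, wd [.c], orderOf_eq_prime a_pow a_ne, ?_⟩
  have hc : (wd [.c])⁻¹ = wd [.c] := by
    have h1 : wd ([.c] ++ [.c]) = wd [] := geq (by decide +kernel)
    rw [wd_append, wd_nil] at h1
    exact inv_eq_of_mul_eq_one_right h1
  have h2 : wd ([.c] ++ (X ++ ([.c] ++ X))) = wd [] := geq chk6
  rw [wd_append, wd_append, wd_append, wd_nil] at h2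
  rw [hc]
  refine eq_inv_of_mul_eq_one_left ?_
  rw [← h2]
  simp only [mul_assoc]

end Cfsg.Agent.H800.Sp.He
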