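import Cfsg.Agent.H800.ME.Final

/-!
# The Monster at 11
-/

set_option autoImplicit false

namespace Cfsg.Agent.H800.Sp.Monster

/-- **The Monster at 11.** -/
theorem abIrr {G : Type*} [Group G] (h : Cfsg.Spor.IsoM G) : Cfsg.Agent.H795.AbIrr 11 G := by
  obtain ⟨e⟩ := h
  obtain ⟨e'⟩ := Cfsg.Agent.MonsterP.Equiv.equiv
  exact Cfsg.Agent.H800.ME.Final.abIrr_model.of_mulEquiv (e.trans e').symm

theorem hasReal {G : Type*} [Group G] (h : Cfsg.Spor.IsoM G) : Cfsg.Agent.H800.Sp.HasReal 11 G := by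
  obtain ⟨e⟩ := h
  obtain ⟨e'⟩ := Cfsg.Agent.MonsterP.Equiv.equiv
  exact Cfsg.Agent.H800.ME.Final.hasReal_model.of_mulEquiv (e.trans e').symm

end Cfsg.Agent.H800.Sp.Monster
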