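import Cfsg.Agent.NotCT.Orders
import Cfsg.Agent.H800.Sp.Mathieu
import Cfsg.Agent.H800.Sp.HS
import Cfsg.Agent.H800.Sp.TitsFive
import Cfsg.Agent.H800.Sp.J2
import Cfsg.Agent.H800.Sp.He
import Cfsg.Agent.H800.Sp.Suz
import Cfsg.Agent.H800.Sp.FiTT
import Cfsg.Agent.H800.Sp.FiTTh
import Cfsg.Agent.H800.Sp.FiTF
import Cfsg.Agent.H800.Sp.ON
import Cfsg.Agent.H800.Sp.CoOne
import Cfsg.Agent.H800.Sp.Th
import Cfsg.Agent.H800.Sp.B
import Cfsg.Agent.H800.Sp.Monster
import Cfsg.Agent.H800.Sp.NotAbA
import Cfsg.Agent.H800.Sp.NotAbB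

/-!
# `AbIrr p G` for the sporadic groups and the Tits group, `p` odd

`abIrr_spor` : `G` sporadic, `p ≠ 2`, not (`p = 13` and `G` the Monster); `abIrr_tits`.
-/

set_option autoImplicit false

namespace Cfsg.Agent.H800.Sp

open Subgroup Cfsg Cfsg.Agent.H795

universe u

/-- the primes dividing the orders of the sporadic groups -/
def primes : List ℕ := [2, 3, 5, 7, 11, 13, 17, 19, 23, 29, 31, 37, 41, 43, 47, 59, 67, 71]

theorem primes_prime : ∀ q ∈ primes, q.Prime := by
  intro q hq
  simp only [primes, List.mem_cons, List.not_mem_nil, or_false] at hq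
  rcases hq with rfl | rfl | rfl | rfl | rfl | rfl | rfl | rfl | rfl | rfl | rfl | rfl | rfl | rfl | rfl | rfl | rfl | rfl <;>
    norm_num

theorem mem_primes {p N : ℕ} (hp : p.Prime) (hN : N ∣ primes.prod ^ 46) (h : p ∣ N) : p ∈ primes := by
  have h1 : p ∣ primes.prod := hp.dvd_of_dvd_pow (h.trans hN)
  obtain ⟨q, hq, hpq⟩ := (hp.prime.dvd_prod_iff).1 h1
  rwa [(Nat.prime_dvd_prime_iff_eq hp (primes_prime q hq)).1 hpq]

/-- the primes whose square divides `N` -/
theorem mem_of_sq {p N : ℕ} (hp : p.Prime) (hN : (primes.prod ^ 46 % N == 0) = true) (T : List ℕ)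
    (hT : (primes.all fun q => T.contains q || !(N % q ^ 2 == 0)) = true) (h : p ^ 2 ∣ N) : p ∈ T := by
  have h1 := mem_primes hp (Nat.dvd_of_mod_eq_zero (by simpa using hN)) ((dvd_pow_self p (by norm_num)).trans h)
  have h2 := (List.all_eq_true.1 hT) p h1
  rw [Bool.or_eq_true] at h2
  rcases h2 with h2 | h2
  · simpa using h2
  · have h3 : N % p ^ 2 = 0 := Nat.mod_eq_zero_of_dvd h
    rw [h3] at h2
    exact absurd h2 (by decide)

/-- the case distinction over the primes whose square divides the order -/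
theorem split {p : ℕ} [hp : Fact p.Prime] {G : Type*} [Group G] [Finite G] {N : ℕ} (hc : Nat.card G = N) (T : List ℕ)
    (hN : (primes.prod ^ 46 % N == 0) = true)
    (hT : (primes.all fun q => T.contains q || !(N % q ^ 2 == 0)) = true) (h : p ∈ T → AbIrr p G) : AbIrr p G := by
  by_cases h1 : p ^ 2 ∣ N
  · exact h (mem_of_sq hp.out hN T hT h1)
  · exact abIrr_of_not_sq (by rwa [hc])

section
variable {p : ℕ} [hp : Fact p.Prime] {G : Type u} [Group G] [Finite G]

theorem row_m11 (hp2 : p ≠ 2) (h : Spor.IsoM11 G) : AbIrr p G := by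
  refine split (NotCT.Orders.m11 h) [2, 3] (by decide +kernel) (by decide +kernel) fun hT => ?_
  simp only [List.mem_cons, List.not_mem_nil, or_false] at hT
  rcases hT with rfl | rfl
  · exact absurd rfl hp2
  · exact (Mathieu.oneClass_M11 h).abIrr

theorem row_m12 (hp2 : p ≠ 2) (h : Spor.IsoM12 G) : AbIrr p G := by
  refine split (NotCT.Orders.m12 h) [2, 3] (by decide +kernel) (by decide +kernel) fun hT => ?_
  simp only [List.mem_cons, List.not_mem_nil, or_false] at hT
  rcases hT with rfl | rfl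
  · exact absurd rfl hp2
  · exact (NotAbRows.m12_3 h).abIrr

theorem row_m22 (hp2 : p ≠ 2) (h : Spor.IsoM22 G) : AbIrr p G := by
  refine split (NotCT.Orders.m22 h) [2, 3] (by decide +kernel) (by decide +kernel) fun hT => ?_
  simp only [List.mem_cons, List.not_mem_nil, or_false] at hT
  rcases hT with rfl | rfl
  · exact absurd rfl hp2
  · exact (Mathieu.oneClass_M22 h).abIrr

theorem row_m23 (hp2 : p ≠ 2) (h : Spor.IsoM23 G) : AbIrr p G := by
  refine split (NotCT.Orders.m23 h) [2, 3] (by decide +kernel) (by decide +kernel) fun hT => ?_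
  simp only [List.mem_cons, List.not_mem_nil, or_false] at hT
  rcases hT with rfl | rfl
  · exact absurd rfl hp2
  · exact (Mathieu.oneClass_M23 h).abIrr

theorem row_m24 (hp2 : p ≠ 2) (h : Spor.IsoM24 G) : AbIrr p G := by
  refine split (NotCT.Orders.m24 h) [2, 3] (by decide +kernel) (by decide +kernel) fun hT => ?_
  simp only [List.mem_cons, List.not_mem_nil, or_false] at hT
  rcases hT with rfl | rfl
  · exact absurd rfl hp2
  · exact (NotAbRows.m24_3 h).abIrr

theorem row_j1 (hp2 : p ≠ 2) (h : Spor.IsoJ1 G) : AbIrr p G := by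
  refine split (NotCT.Orders.j1 h) [2] (by decide +kernel) (by decide +kernel) fun hT => ?_
  simp only [List.mem_cons, List.not_mem_nil, or_false] at hT
  exact absurd hT hp2

theorem row_j2 (hp2 : p ≠ 2) (h : Spor.IsoJ2 G) : AbIrr p G := by
  refine split (NotCT.Orders.j2 h) [2, 3, 5] (by decide +kernel) (by decide +kernel) fun hT => ?_
  simp only [List.mem_cons, List.not_mem_nil, or_false] at hT
  rcases hT with rfl | rfl | rfl
  · exact absurd rfl hp2
  · exact (NotAbRows.j2_3 h).abIrr
  · exact J2.abIrr h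

theorem row_j3 (hp2 : p ≠ 2) (h : Spor.IsoJ3 G) : AbIrr p G := by
  refine split (NotCT.Orders.j3 h) [2, 3] (by decide +kernel) (by decide +kernel) fun hT => ?_
  simp only [List.mem_cons, List.not_mem_nil, or_false] at hT
  rcases hT with rfl | rfl
  · exact absurd rfl hp2
  · exact (NotAbRows.j3_3 h).abIrr

theorem row_j4 (hp2 : p ≠ 2) (h : Spor.IsoJ4 G) : AbIrr p G := by
  refine split (NotCT.Orders.j4 h) [2, 3, 11] (by decide +kernel) (by decide +kernel) fun hT => ?_
  simp only [List.mem_cons, List.not_mem_nil, or_false] at hT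
  rcases hT with rfl | rfl | rfl
  · exact absurd rfl hp2
  · exact (NotAbRows.j4_3 h).abIrr
  · exact (NotAbRows.j4_11 h).abIrr

theorem row_co1 (hp2 : p ≠ 2) (h : Spor.IsoCo1 G) : AbIrr p G := by
  refine split (NotCT.Orders.co1 h) [2, 3, 5, 7] (by decide +kernel) (by decide +kernel) fun hT => ?_
  simp only [List.mem_cons, List.not_mem_nil, or_false] at hT
  rcases hT with rfl | rfl | rfl | rfl
  · exact absurd rfl hp2
  · exact (NotAbRows.co1_3 h).abIrr
  · exact (NotAbRows.co1_5 h).abIrr
  · exact CoOne.abIrr h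

theorem row_co2 (hp2 : p ≠ 2) (h : Spor.IsoCo2 G) : AbIrr p G := by
  refine split (NotCT.Orders.co2 h) [2, 3, 5] (by decide +kernel) (by decide +kernel) fun hT => ?_
  simp only [List.mem_cons, List.not_mem_nil, or_false] at hT
  rcases hT with rfl | rfl | rfl
  · exact absurd rfl hp2
  · exact (NotAbRows.co2_3 h).abIrr
  · exact (NotAbRows.co2_5 h).abIrr

theorem row_co3 (hp2 : p ≠ 2) (h : Spor.IsoCo3 G) : AbIrr p G := by
  refine split (NotCT.Orders.co3 h) [2, 3, 5] (by decide +kernel) (by decide +kernel) fun hT => ?_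
  simp only [List.mem_cons, List.not_mem_nil, or_false] at hT
  rcases hT with rfl | rfl | rfl
  · exact absurd rfl hp2
  · exact (NotAbRows.co3_3 h).abIrr
  · exact (NotAbRows.co3_5 h).abIrr

theorem row_mcl (hp2 : p ≠ 2) (h : Spor.IsoMcL G) : AbIrr p G := by
  refine split (NotCT.Orders.mcl h) [2, 3, 5] (by decide +kernel) (by decide +kernel) fun hT => ?_
  simp only [List.mem_cons, List.not_mem_nil, or_false] at hT
  rcases hT with rfl | rfl | rfl
  · exact absurd rfl hp2
  · exact (NotAbRows.mcl_3 h).abIrr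
  · exact (NotAbRows.mcl_5 h).abIrr

theorem row_hs (hp2 : p ≠ 2) (h : Spor.IsoHS G) : AbIrr p G := by
  refine split (NotCT.Orders.hs h) [2, 3, 5] (by decide +kernel) (by decide +kernel) fun hT => ?_
  simp only [List.mem_cons, List.not_mem_nil, or_false] at hT
  rcases hT with rfl | rfl | rfl
  · exact absurd rfl hp2
  · exact HS.abIrr h
  · exact (NotAbRows.hs_5 h).abIrr

theorem row_suz (hp2 : p ≠ 2) (h : Spor.IsoSuz G) : AbIrr p G := by
  refine split (NotCT.Orders.suz h) [2, 3, 5] (by decide +kernel) (by decide +kernel) fun hT => ?_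
  simp only [List.mem_cons, List.not_mem_nil, or_false] at hT
  rcases hT with rfl | rfl | rfl
  · exact absurd rfl hp2
  · exact (NotAbRows.suz_3 h).abIrr
  · exact Suz.abIrr h

theorem row_he (hp2 : p ≠ 2) (h : Spor.IsoHe G) : AbIrr p G := by
  refine split (NotCT.Orders.he h) [2, 3, 5, 7] (by decide +kernel) (by decide +kernel) fun hT => ?_
  simp only [List.mem_cons, List.not_mem_nil, or_false] at hT
  rcases hT with rfl | rfl | rfl | rfl
  · exact absurd rfl hp2
  · exact (NotAbRows.he_3 h).abIrr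
  · exact He.abIrr h
  · exact (NotAbRows.he_7 h).abIrr

theorem row_ru (hp2 : p ≠ 2) (h : Spor.IsoRu G) : AbIrr p G := by
  refine split (NotCT.Orders.ru h) [2, 3, 5] (by decide +kernel) (by decide +kernel) fun hT => ?_
  simp only [List.mem_cons, List.not_mem_nil, or_false] at hT
  rcases hT with rfl | rfl | rfl
  · exact absurd rfl hp2
  · exact (NotAbRows.ru_3 h).abIrr
  · exact (NotAbRows.ru_5 h).abIrr

theorem row_on (hp2 : p ≠ 2) (h : Spor.IsoON G) : AbIrr p G := by
  refine split (NotCT.Orders.on h) [2, 3, 7] (by decide +kernel) (by decide +kernel) fun hT => ?_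
  simp only [List.mem_cons, List.not_mem_nil, or_false] at hT
  rcases hT with rfl | rfl | rfl
  · exact absurd rfl hp2
  · exact ON.abIrr h
  · exact (NotAbRows.on_7 h).abIrr

theorem row_ly (hp2 : p ≠ 2) (h : Spor.IsoLy G) : AbIrr p G := by
  refine split (NotCT.Orders.ly h) [2, 3, 5] (by decide +kernel) (by decide +kernel) fun hT => ?_
  simp only [List.mem_cons, List.not_mem_nil, or_false] at hT
  rcases hT with rfl | rfl | rfl
  · exact absurd rfl hp2
  · exact (NotAbRows.ly_3 h).abIrr
  · exact (NotAbRows.ly_5 h).abIrr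

theorem row_fi22 (hp2 : p ≠ 2) (h : Spor.IsoFi22 G) : AbIrr p G := by
  refine split (NotCT.Orders.fi22 h) [2, 3, 5] (by decide +kernel) (by decide +kernel) fun hT => ?_
  simp only [List.mem_cons, List.not_mem_nil, or_false] at hT
  rcases hT with rfl | rfl | rfl
  · exact absurd rfl hp2
  · exact (NotAbRows.fi22_3 h).abIrr
  · exact FiTT.abIrr h

theorem row_fi23 (hp2 : p ≠ 2) (h : Spor.IsoFi23 G) : AbIrr p G := by
  refine split (NotCT.Orders.fi23 h) [2, 3, 5] (by decide +kernel) (by decide +kernel) fun hT => ?_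
  simp only [List.mem_cons, List.not_mem_nil, or_false] at hT
  rcases hT with rfl | rfl | rfl
  · exact absurd rfl hp2
  · exact (NotAbRows.fi23_3 h).abIrr
  · exact FiTTh.abIrr h

theorem row_fi24 (hp2 : p ≠ 2) (h : Spor.IsoFi24' G) : AbIrr p G := by
  refine split (NotCT.Orders.fi24 h) [2, 3, 5, 7] (by decide +kernel) (by decide +kernel) fun hT => ?_
  simp only [List.mem_cons, List.not_mem_nil, or_false] at hT
  rcases hT with rfl | rfl | rfl | rfl
  · exact absurd rfl hp2
  · exact (NotAbRows.fi24_3 h).abIrr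
  · exact FiTF.abIrr h
  · exact (NotAbRows.fi24_7 h).abIrr

theorem row_hn (hp2 : p ≠ 2) (h : Spor.IsoHN G) : AbIrr p G := by
  refine split (NotCT.Orders.hn h) [2, 3, 5] (by decide +kernel) (by decide +kernel) fun hT => ?_
  simp only [List.mem_cons, List.not_mem_nil, or_false] at hT
  rcases hT with rfl | rfl | rfl
  · exact absurd rfl hp2
  · exact (NotAbRows.hn_3 h).abIrr
  · exact (NotAbRows.hn_5 h).abIrr

theorem row_th (hp2 : p ≠ 2) (h : Spor.IsoTh G) : AbIrr p G := by
  refine split (NotCT.Orders.th h) [2, 3, 5, 7] (by decide +kernel) (by decide +kernel) fun hT => ?_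
  simp only [List.mem_cons, List.not_mem_nil, or_false] at hT
  rcases hT with rfl | rfl | rfl | rfl
  · exact absurd rfl hp2
  · exact (NotAbRows.th_3 h).abIrr
  · exact (NotAbRows.th_5 h).abIrr
  · exact Th.abIrr h

theorem row_b (hp2 : p ≠ 2) (h : Spor.IsoB G) : AbIrr p G := by
  refine split (NotCT.Orders.b h) [2, 3, 5, 7] (by decide +kernel) (by decide +kernel) fun hT => ?_
  simp only [List.mem_cons, List.not_mem_nil, or_false] at hT
  rcases hT with rfl | rfl | rfl | rfl
  · exact absurd rfl hp2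
  · exact (NotAbRows.b_3 h).abIrr
  · exact (NotAbRows.b_5 h).abIrr
  · exact B.abIrr h

theorem row_tits (hp2 : p ≠ 2) (h : Lie.IsoTits G) : AbIrr p G := by
  refine split (NotCT.Orders.tits h) [2, 3, 5] (by decide +kernel) (by decide +kernel) fun hT => ?_
  simp only [List.mem_cons, List.not_mem_nil, or_false] at hT
  rcases hT with rfl | rfl | rfl
  · exact absurd rfl hp2
  · exact (NotAbRows.tits_3 h).abIrr
  · exact (TitsFive.oneClass h).abIrr

theorem row_m (hp2 : p ≠ 2) (hp13 : p ≠ 13) (h : Spor.IsoM G) : AbIrr p G := by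
  refine split (NotCT.Orders.m h) [2, 3, 5, 7, 11, 13] (by decide +kernel) (by decide +kernel) fun hT => ?_
  simp only [List.mem_cons, List.not_mem_nil, or_false] at hT
  rcases hT with rfl | rfl | rfl | rfl | rfl | rfl
  · exact absurd rfl hp2
  · exact (NotAbRows.m_3 h).abIrr
  · exact (NotAbRows.m_5 h).abIrr
  · exact (NotAbRows.m_7 h).abIrr
  · exact Monster.abIrr h
  · exact absurd rfl hp13

/-- **The Tits group.** -/
theorem abIrr_tits (hp2 : p ≠ 2) (h : Lie.IsoTits G) : AbIrr p G := row_tits hp2 h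

/-- **The sporadic groups.** -/
theorem abIrr_spor (hG : IsSporadicGroup G) (hp2 : p ≠ 2) (hM : ¬ (p = 13 ∧ Spor.IsoM G)) : AbIrr p G := by
  rcases hG with h | h | h | h | h | h | h | h | h | h | h | h | h | h | h | h | h | h | h | h | h | h | h | h | h | h
  · exact row_m11 hp2 h
  · exact row_m12 hp2 h
  · exact row_m22 hp2 h
  · exact row_m23 hp2 h
  · exact row_m24 hp2 h
  · exact row_j1 hp2 h
  · exact row_j2 hp2 h
  · exact row_j3 hp2 h
  · exact row_j4 hp2 h
  · exact row_co1 hp2 h
  · exact row_co2 hp2 h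
  · exact row_co3 hp2 h
  · exact row_mcl hp2 h
  · exact row_hs hp2 h
  · exact row_suz hp2 h
  · exact row_he hp2 h
  · exact row_ru hp2 h
  · exact row_on hp2 h
  · exact row_ly hp2 h
  · exact row_fi22 hp2 h
  · exact row_fi23 hp2 h
  · exact row_fi24 hp2 h
  · exact row_hn hp2 h
  · exact row_th hp2 h
  · exact row_b hp2 h
  · exact row_m hp2 (fun h13 => hM ⟨h13, h⟩) h

end

end Cfsg.Agent.H800.Sp
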