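import Cfsg.Agent.H800.Sp.Base

/-!
`AbIrr 3 A₆`, and real elements of order 3 in `A₆`.
-/

set_option autoImplicit false

namespace Cfsg.Agent.H800.Sp.AltSix

open Cfsg.Agent.H800.Sp Cfsg.Agent.H795 Equiv

instance instFactPrimeThree : Fact (Nat.Prime 3) := ⟨Nat.prime_three⟩

/-- the 3-cycle `(0 1 2)` -/
def a : Perm (Fin 6) := swap 0 1 * swap 1 2

/-- `(0 1 2)(3 4 5)` -/
def b : Perm (Fin 6) := swap 0 1 * swap 1 2 * (swap 3 4 * swap 4 5)

theorem a_mem : a ∈ alternatingGroup (Fin 6) := by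
  rw [Perm.mem_alternatingGroup]; decide

theorem b_mem : b ∈ alternatingGroup (Fin 6) := by
  rw [Perm.mem_alternatingGroup]; decide

theorem a_type : a.cycleType = Multiset.replicate 1 3 := by decide

theorem b_type : b.cycleType = Multiset.replicate 2 3 := by decide

theorem a_order : orderOf a = 3 := orderOf_eq_prime (by decide) (by decide)

theorem b_order : orderOf b = 3 := orderOf_eq_prime (by decide) (by decide)

/-- conjugacy in `A₆` from conjugacy in `S₆` and an odd element of the centralizer -/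
theorem conj_alt {x y : alternatingGroup (Fin 6)} (s : Perm (Fin 6)) (hs : Perm.sign s = -1)
    (hsy : s * (y : Perm (Fin 6)) = y * s) (h : IsConj (x : Perm (Fin 6)) y) :
    ∃ g : alternatingGroup (Fin 6), g * x * g⁻¹ = y := by
  obtain ⟨c, hc⟩ := isConj_iff.1 h
  rcases Int.units_eq_one_or (Perm.sign c) with h1 | h1
  · exact ⟨⟨c, Perm.mem_alternatingGroup.2 h1⟩, Subtype.ext hc⟩
  · refine ⟨⟨s * c, Perm.mem_alternatingGroup.2 (by rw [map_mul, hs, h1]; rfl)⟩, Subtype.ext ?_⟩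
    show s * c * x * (s * c)⁻¹ = (y : Perm (Fin 6))
    have e : s * c * x * (s * c)⁻¹ = s * (c * x * c⁻¹) * s⁻¹ := by group
    rw [e, hc, hsy]
    group

/-- two classes of elements of order 3 -/
theorem conj_ab (x : alternatingGroup (Fin 6)) (hx : orderOf x = 3) :
    (∃ g : alternatingGroup (Fin 6), g * x * g⁻¹ = ⟨a, a_mem⟩) ∨
      (∃ g : alternatingGroup (Fin 6), g * x * g⁻¹ = ⟨b, b_mem⟩) := by
  have hx' : orderOf (x : Perm (Fin 6)) = 3 := by rw [Subgroup.orderOf_coe, hx]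
  obtain ⟨n, hn⟩ := Perm.cycleType_prime_order (σ := (x : Perm (Fin 6))) (by rw [hx']; exact Nat.prime_three)
  rw [hx'] at hn
  have h1 : (x : Perm (Fin 6)).cycleType.sum ≤ 6 := by
    have := (x : Perm (Fin 6)).sum_cycleType
    rw [this]
    exact (Finset.card_le_univ _).trans (by simp)
  rw [hn, Multiset.sum_replicate, smul_eq_mul] at h1
  have h2 : n = 0 ∨ n = 1 := by omega
  rcases h2 with rfl | rfl
  · left
    refine conj_alt (swap 3 4) (by decide) (by decide) ?_
    rw [Perm.isConj_iff_cycleType_eq, hn]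
    exact a_type.symm
  · right
    refine conj_alt (swap 0 3 * swap 1 4 * swap 2 5) (by decide) (by decide) ?_
    rw [Perm.isConj_iff_cycleType_eq, hn]
    exact b_type.symm

theorem abIrr : AbIrr 3 (alternatingGroup (Fin 6)) := by
  refine abIrr_of_two (a := ⟨a, a_mem⟩) (a' := ⟨b, b_mem⟩) (by rw [Subgroup.orderOf_mk, a_order])
    (by rw [Subgroup.orderOf_mk, b_order]) fun x hx => ?_
  rcases conj_ab x hx with ⟨g, hg⟩ | ⟨g, hg⟩
  · exact Or.inl ⟨g, by rw [hg]; exact Subgroup.mem_zpowers _⟩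
  · exact Or.inr ⟨g, by rw [hg]; exact Subgroup.mem_zpowers _⟩

theorem hasReal : HasReal 3 (alternatingGroup (Fin 6)) := by
  refine ⟨⟨a, a_mem⟩, ⟨swap 1 2 * swap 3 4, ?_⟩, by rw [Subgroup.orderOf_mk, a_order], Subtype.ext ?_⟩
  · rw [Perm.mem_alternatingGroup]; decide
  · show (swap 1 2 * swap 3 4) * a * (swap 1 2 * swap 3 4)⁻¹ = a⁻¹
    decide

end Cfsg.Agent.H800.Sp.AltSix
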