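import Cfsg.Agent.H800.Sp.Base

/-!
# An irreducible element of the normalizer of a Sylow subgroup of order `p²`

`abIrr_of_rot` : `a` of order `p`, `b = n a n⁻¹` commutes with `a`, `n b n⁻¹ = a ^ r b ^ s` with `X² - s X - r` without
zeros modulo `p`, `p³ ∤ |G|`: `AbIrr p G`.
-/

set_option autoImplicit false

universe u

namespace Cfsg.Agent.H800.Sp

open Subgroup Cfsg.Agent.H795

theorem abIrr_of_rot {G : Type u} [Group G] [Finite G] {p : ℕ} [hp : Fact p.Prime] (h3 : ¬ p ^ 3 ∣ Nat.card G)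
    {a n : G} (ha : orderOf a = p) (r s : ℤ) (hirr : ∀ k : ZMod p, k ^ 2 ≠ r + s * k)
    (h1 : a * (n * a * n⁻¹) = (n * a * n⁻¹) * a)
    (h2 : n * (n * a * n⁻¹) * n⁻¹ = a ^ r * (n * a * n⁻¹) ^ s) : AbIrr p G := by
  classical
  have hne1 : ∀ {x : G}, orderOf x = p → x ≠ 1 := by
    rintro x hx rfl
    rw [orderOf_one] at hx
    exact hp.out.one_lt.ne hx
  set b := n * a * n⁻¹ with hb
  have hbo : orderOf b = p := by rw [hb, conj_order, ha]
  -- `b ∉ ⟨a⟩`
  have hba : b ∉ zpowers a := by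
    intro h
    obtain ⟨k, hk⟩ := mem_zpowers_iff.1 h
    have e1 : n * b * n⁻¹ = a ^ (k * k) := by
      have : n * b * n⁻¹ = (n * a * n⁻¹) ^ k := by
        rw [← MulAut.conj_apply, ← MulAut.conj_apply, ← map_zpow, hk]
      rw [this, ← hb, ← hk, ← zpow_mul]
    rw [e1, ← hk, ← zpow_mul, ← zpow_add] at h2
    have h4 : (k * k : ℤ) ≡ r + k * s [ZMOD p] := by
      rw [← ha]
      exact zpow_eq_zpow_iff_modEq.1 h2
    rw [← ZMod.intCast_eq_intCast_iff] at h4
    apply hirr (k : ZMod p)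
    push_cast at h4
    rw [pow_two, h4]
    ring
  -- the group `⟨a, b⟩`
  have hnorm : zpowers b ≤ normalizer ((zpowers a : Subgroup G) : Set G) := by
    rw [zpowers_le]
    apply centralizer_le_normalizer
    rw [mem_centralizer_iff]
    intro z hz
    obtain ⟨i, rfl⟩ := mem_zpowers_iff.1 hz
    exact ((show Commute a b from h1).zpow_left i).eq
  have hpa : IsPGroup p (zpowers a) := IsPGroup.of_card (n := 1) (by rw [Nat.card_zpowers, ha, pow_one])
  have hpb : IsPGroup p (zpowers b) := IsPGroup.of_card (n := 1) (by rw [Nat.card_zpowers, hbo, pow_one])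
  set P0 : Subgroup G := zpowers a ⊔ zpowers b with hP0
  have hP : IsPGroup p P0 := hpa.to_sup_of_normal_left' hpb hnorm
  have haP : a ∈ P0 := mem_sup_left (mem_zpowers a)
  have hbP : b ∈ P0 := mem_sup_right (mem_zpowers b)
  have hle : ∀ T : Subgroup G, P0 ≤ T ↔ a ∈ T ∧ b ∈ T := by
    intro T
    rw [hP0, sup_le_iff, zpowers_le, zpowers_le]
  obtain ⟨m, hm⟩ := IsPGroup.iff_card.1 hP
  have hm2 : m = 2 := by
    have h5 : m < 3 := by
      by_contra hcon
      exact h3 ((pow_dvd_pow p (by omega)).trans (hm ▸ Subgroup.card_subgroup_dvd_card P0))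
    have h6 : Nat.card (zpowers a) < Nat.card P0 := by
      have h7 : zpowers a < P0 := by
        refine lt_of_le_of_ne le_sup_left fun h8 => hba ?_
        rw [h8]
        exact hbP
      exact Set.ncard_lt_ncard (SetLike.coe_ssubset_coe.2 h7) (Set.toFinite _)
    rw [Nat.card_zpowers, ha, hm] at h6
    have h9 : 1 < m := (Nat.pow_lt_pow_iff_right hp.out.one_lt).1 (by rwa [pow_one])
    omega
  rw [hm2] at hm
  -- a conjugate of `P0` is `S`
  intro S hS B hBS hBp hinv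
  obtain ⟨T, hT⟩ := hP.exists_le_sylow
  obtain ⟨g, hg⟩ := MulAction.exists_smul_eq G T S
  have hgm : ∀ x ∈ P0, g * x * g⁻¹ ∈ (S : Subgroup G) := by
    intro x hx
    rw [← hg]
    exact Subgroup.smul_mem_pointwise_smul x (MulAut.conj g) (T : Subgroup G) (hT hx)
  have hScard : ∀ D : Subgroup G, D ≤ (S : Subgroup G) → Nat.card D = p ^ 2 → D = (S : Subgroup G) := by
    intro D hD hDc
    refine Subgroup.eq_of_le_of_card_ge hD ?_
    obtain ⟨k, hk⟩ := IsPGroup.iff_card.1 S.isPGroup'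
    rw [hDc, hk]
    apply Nat.pow_le_pow_right hp.out.pos
    by_contra hcon
    exact h3 ((pow_dvd_pow p (by omega)).trans (hk ▸ Subgroup.card_subgroup_dvd_card _))
  have hPS : P0.map (MulAut.conj g).toMonoidHom = (S : Subgroup G) := by
    apply hScard
    · rintro _ ⟨x, hx, rfl⟩
      exact hgm x hx
    · rw [← hm]
      exact Nat.card_congr (Subgroup.equivMapOfInjective _ _ (MulAut.conj g).injective).toEquiv.symm
  -- the element
  set N := g * n * g⁻¹ with hN
  have hab : ∀ x ∈ P0, n * x * n⁻¹ ∈ P0 := by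
    have h5 : P0 ≤ P0.comap (MulAut.conj n).toMonoidHom := by
      rw [hle]
      refine ⟨?_, ?_⟩
      · show n * a * n⁻¹ ∈ P0
        exact hbP
      · show n * b * n⁻¹ ∈ P0
        rw [h2]
        exact mul_mem (zpow_mem haP r) (zpow_mem hbP s)
    exact fun x hx => h5 hx
  have hcomm0 : ∀ x ∈ P0, ∀ y ∈ P0, x * y = y * x := by
    have h5 : P0 ≤ centralizer ((P0 : Subgroup G) : Set G) := by
      have h6 : P0 ≤ centralizer ({a} : Set G) ⊓ centralizer ({b} : Set G) := by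
        rw [hle]
        refine ⟨⟨?_, ?_⟩, ⟨?_, ?_⟩⟩
        · exact mem_centralizer_singleton_iff.2 rfl
        · exact mem_centralizer_singleton_iff.2 h1
        · exact mem_centralizer_singleton_iff.2 h1.symm
        · exact mem_centralizer_singleton_iff.2 rfl
      rw [hle]
      constructor
      · rw [mem_centralizer_iff]
        intro y hy
        exact mem_centralizer_singleton_iff.1 (h6 hy).1
      · rw [mem_centralizer_iff]
        intro y hy
        exact mem_centralizer_singleton_iff.1 (h6 hy).2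
    intro x hx y hy
    exact (mem_centralizer_iff.1 (h5 hx) y hy).symm
  -- the quadratic relation on `P0`
  have hquad : ∀ x ∈ P0, n * (n * x * n⁻¹) * n⁻¹ = x ^ r * (n * x * n⁻¹) ^ s := by
    let Q : Subgroup G :=
      { carrier := {x | x ∈ P0 ∧ n * (n * x * n⁻¹) * n⁻¹ = x ^ r * (n * x * n⁻¹) ^ s}
        one_mem' := ⟨one_mem _, by simp⟩
        mul_mem' := by
          rintro x y ⟨hx, hx2⟩ ⟨hy, hy2⟩
          refine ⟨mul_mem hx hy, ?_⟩
          have e1 : n * (n * (x * y) * n⁻¹) * n⁻¹ = (n * (n * x * n⁻¹) * n⁻¹) * (n * (n * y * n⁻¹) * n⁻¹) := by group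
          have e2 : n * (x * y) * n⁻¹ = (n * x * n⁻¹) * (n * y * n⁻¹) := by group
          have hc1 : Commute x y := hcomm0 x hx y hy
          have hc2 : Commute (n * x * n⁻¹) (n * y * n⁻¹) := hcomm0 _ (hab x hx) _ (hab y hy)
          have hc3 : Commute ((n * x * n⁻¹) ^ s) (y ^ r) :=
            hcomm0 _ (zpow_mem (hab x hx) s) _ (zpow_mem hy r)
          rw [e1, e2, hx2, hy2, hc1.mul_zpow, hc2.mul_zpow, mul_assoc, ← mul_assoc ((n * x * n⁻¹) ^ s), hc3.eq]
          group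
        inv_mem' := by
          rintro x ⟨hx, hx2⟩
          refine ⟨inv_mem hx, ?_⟩
          have e1 : n * (n * x⁻¹ * n⁻¹) * n⁻¹ = (n * (n * x * n⁻¹) * n⁻¹)⁻¹ := by simp [mul_assoc]
          have e2 : n * x⁻¹ * n⁻¹ = (n * x * n⁻¹)⁻¹ := by group
          have hc3 : Commute ((n * x * n⁻¹) ^ s) (x ^ r) :=
            hcomm0 _ (zpow_mem (hab x hx) s) _ (zpow_mem hx r)
          rw [e1, e2, hx2, mul_inv_rev, inv_zpow, inv_zpow, ← mul_inv_rev, ← mul_inv_rev, hc3.eq] }
    have h5 : P0 ≤ Q := by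
      rw [hle]
      refine ⟨⟨haP, h2⟩, hbP, ?_⟩
      show n * (n * b * n⁻¹) * n⁻¹ = b ^ r * (n * b * n⁻¹) ^ s
      rw [show n * (n * b * n⁻¹) * n⁻¹ = n * (a ^ r * b ^ s) * n⁻¹ by rw [h2]]
      have e1 : n * (a ^ r * b ^ s) * n⁻¹ = (n * a ^ r * n⁻¹) * (n * b ^ s * n⁻¹) := by group
      have e2 : ∀ (z : G) (k : ℤ), n * z ^ k * n⁻¹ = (n * z * n⁻¹) ^ k := by
        intro z k
        rw [← MulAut.conj_apply, map_zpow, MulAut.conj_apply]
      rw [e1, e2, e2, ← hb]
    exact fun x hx => (h5 hx).2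
  -- transport to `S`
  have hmem : ∀ y ∈ (S : Subgroup G), ∃ x ∈ P0, g * x * g⁻¹ = y := by
    intro y hy
    rw [← hPS] at hy
    obtain ⟨x, hx, rfl⟩ := hy
    exact ⟨x, hx, rfl⟩
  have hNS : N ∈ normalizer ((S : Subgroup G) : Set G) := by
    have h5 : ∀ y ∈ (S : Subgroup G), N * y * N⁻¹ ∈ (S : Subgroup G) := by
      intro y hy
      obtain ⟨x, hx, rfl⟩ := hmem y hy
      have e1 : N * (g * x * g⁻¹) * N⁻¹ = g * (n * x * n⁻¹) * g⁻¹ := by rw [hN]; group
      rw [e1]
      exact hgm _ (hab x hx)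
    have h6 : (S : Subgroup G).map (MulAut.conj N).toMonoidHom = S := by
      refine Subgroup.eq_of_le_of_card_ge ?_ ?_
      · rintro _ ⟨y, hy, rfl⟩
        exact h5 y hy
      · exact (Nat.card_congr (Subgroup.equivMapOfInjective _ _ (MulAut.conj N).injective).toEquiv).le
    rw [mem_normalizer_iff]
    intro y
    refine ⟨h5 y, fun hy => ?_⟩
    have h7 : N * y * N⁻¹ ∈ (S : Subgroup G).map (MulAut.conj N).toMonoidHom := by rw [h6]; exact hy
    obtain ⟨z, hz, hz2⟩ := h7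
    have h8 : z = y := (MulAut.conj N).injective hz2
    rwa [← h8]
  have hquadS : ∀ y ∈ (S : Subgroup G), N * (N * y * N⁻¹) * N⁻¹ = y ^ r * (N * y * N⁻¹) ^ s := by
    intro y hy
    obtain ⟨x, hx, rfl⟩ := hmem y hy
    have e1 : N * (g * x * g⁻¹) * N⁻¹ = g * (n * x * n⁻¹) * g⁻¹ := by rw [hN]; group
    have e2 : N * (g * (n * x * n⁻¹) * g⁻¹) * N⁻¹ = g * (n * (n * x * n⁻¹) * n⁻¹) * g⁻¹ := by rw [hN]; group
    rw [e1, e2, hquad x hx]
    simp only [← MulAut.conj_apply, map_mul, map_zpow]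
  by_cases hB0 : B = ⊥
  · exact Or.inl hB0
  right
  intro x hx hxp
  obtain ⟨y, hy, hy1⟩ : ∃ y ∈ B, y ≠ 1 := by
    by_contra hcon
    push Not at hcon
    exact hB0 ((eq_bot_iff_forall B).2 hcon)
  have hyo : orderOf y = p := orderOf_eq_prime (hBp y hy) hy1
  suffices h : B = (S : Subgroup G) by rw [h]; exact hx
  obtain ⟨k, hk⟩ := IsPGroup.iff_card.1 (S.isPGroup'.to_le hBS)
  have hk1 : 1 ≤ k := by
    by_contra hcon
    have : k = 0 := by omega
    rw [this, pow_zero] at hk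
    exact hB0 (Subgroup.eq_bot_of_card_eq B hk)
  rcases Nat.lt_or_ge k 2 with hk2 | hk2
  · exfalso
    have hk' : k = 1 := by omega
    rw [hk', pow_one] at hk
    have hBy : B = zpowers y := by
      symm
      refine Subgroup.eq_of_le_of_card_ge (by rwa [zpowers_le]) ?_
      rw [hk, Nat.card_zpowers, hyo]
    have h5 : N * y * N⁻¹ ∈ zpowers y := by
      rw [← hBy]
      exact hinv N hNS y hy
    obtain ⟨l, hl⟩ := mem_zpowers_iff.1 h5
    have h6 := hquadS y (hBS hy)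
    have e1 : N * (N * y * N⁻¹) * N⁻¹ = y ^ (l * l) := by
      have : N * (N * y * N⁻¹) * N⁻¹ = (N * y * N⁻¹) ^ l := by
        rw [conj_zpow, hl]
      rw [this, ← hl, ← zpow_mul]
    rw [e1, ← hl, ← zpow_mul, ← zpow_add] at h6
    have h4 : (l * l : ℤ) ≡ r + l * s [ZMOD p] := by
      rw [← hyo]
      exact zpow_eq_zpow_iff_modEq.1 h6
    rw [← ZMod.intCast_eq_intCast_iff] at h4
    apply hirr (l : ZMod p)
    push_cast at h4
    rw [pow_two, h4]
    ring
  · refine Subgroup.eq_of_le_of_card_ge hBS ?_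
    obtain ⟨j, hj⟩ := IsPGroup.iff_card.1 S.isPGroup'
    rw [hk, hj]
    apply Nat.pow_le_pow_right hp.out.pos
    have : j < 3 := by
      by_contra hcon
      exact h3 ((pow_dvd_pow p (by omega)).trans (hj ▸ Subgroup.card_subgroup_dvd_card _))
    omega

/-- an element acting as an element of order 3 -/
theorem abIrr_of_rot_three {G : Type u} [Group G] [Finite G] {p : ℕ} [hp : Fact p.Prime] (h3 : ¬ p ^ 3 ∣ Nat.card G)
    {a n : G} (ha : orderOf a = p) (hirr : ∀ k : ZMod p, k ^ 2 + k + 1 ≠ 0)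
    (h1 : a * (n * a * n⁻¹) = (n * a * n⁻¹) * a) (h2 : (a * n) * (a * n) * (a * n) = n * n * n) : AbIrr p G := by
  refine abIrr_of_rot h3 ha (-1) (-1) (fun k hk => hirr k ?_) h1 ?_
  · rw [hk]
    push_cast
    ring
  · have e1 : a * (n * a * n⁻¹) * (n * (n * a * n⁻¹) * n⁻¹) * (n * n * n) = (a * n) * (a * n) * (a * n) := by group
    rw [h2] at e1
    have e2 : a * (n * a * n⁻¹) * (n * (n * a * n⁻¹) * n⁻¹) = 1 := mul_right_cancel (e1.trans (one_mul _).symm)
    rw [eq_inv_of_mul_eq_one_right e2, h1, mul_inv_rev, zpow_neg_one, zpow_neg_one]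

/-- an element acting as an element of order 4 -/
theorem abIrr_of_rot_four {G : Type u} [Group G] [Finite G] {p : ℕ} [hp : Fact p.Prime] (h3 : ¬ p ^ 3 ∣ Nat.card G)
    {a n : G} (ha : orderOf a = p) (hirr : ∀ k : ZMod p, k ^ 2 + 1 ≠ 0)
    (h1 : a * (n * a * n⁻¹) = (n * a * n⁻¹) * a) (h2 : n * n * a * (n * n)⁻¹ = a⁻¹) : AbIrr p G := by
  refine abIrr_of_rot h3 ha (-1) 0 (fun k hk => hirr k ?_) h1 ?_
  · rw [hk]
    push_cast
    ring
  · rw [zpow_zero, mul_one, zpow_neg_one, ← h2]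
    group

end Cfsg.Agent.H800.Sp
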